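import Cfsg.Agent.ThMult.Core
import Cfsg.Agent.Co1Mult.Killed
import Cfsg.Agent.DCoset.Th.Simple

/-!
Lifts of `⟨a, b, c, d, e, s, t⟩` to central extensions, and the exponent of the multiplier of the
Thompson group once its order is known.
-/

set_option autoImplicit false
set_option maxRecDepth 100000

namespace Cfsg.Agent.ThMult

open Cfsg.Agent.CosetCert
open scoped commutatorElement

theorem center_mul_inv {E : Type*} [Group E] {w : E} (hw : w ∈ Subgroup.center E) (x : E) :
    x * w = w * x :=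
  Subgroup.mem_center_iff.1 hw x

/-- A lift commuting modulo the centre with an involution commutes with it, if its cube is central. -/
theorem t_fix {E : Type*} [Group E] {T x : E} (hx : x * x = 1) (hT : T ^ 3 ∈ Subgroup.center E)
    (hw : x⁻¹ * (T⁻¹ * x * T) ∈ Subgroup.center E) : T⁻¹ * x * T = x := by
  set w := x⁻¹ * (T⁻¹ * x * T) with hwdef
  have h1 : T⁻¹ * x * T = x * w := by rw [hwdef, mul_inv_cancel_left]
  have h2 : w ^ 2 = 1 := by
    have e : (x * w) ^ 2 = 1 := by
      rw [← h1, pow_two, show T⁻¹ * x * T * (T⁻¹ * x * T) = T⁻¹ * (x * x) * T by group, hx]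
      group
    rwa [Commute.mul_pow (Subgroup.mem_center_iff.1 hw x), pow_two, hx, one_mul] at e
  have hwc : T⁻¹ * w * T = w := by
    rw [mul_assoc, ← Subgroup.mem_center_iff.1 hw T, inv_mul_cancel_left]
  have h3 : x * w ^ 3 = x := by
    have e : (T ^ 3)⁻¹ * x * T ^ 3 = x := by
      rw [mul_assoc, Subgroup.mem_center_iff.1 hT x, inv_mul_cancel_left]
    conv_rhs => rw [← e, show (T ^ 3)⁻¹ * x * T ^ 3 = T⁻¹ * (T⁻¹ * (T⁻¹ * x * T) * T) * T by rw [pow_three]; group,
      h1, show T⁻¹ * (x * w) * T = T⁻¹ * x * T * (T⁻¹ * w * T) by group, h1, hwc,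
      show T⁻¹ * (x * w * w) * T = T⁻¹ * x * T * (T⁻¹ * w * T) * (T⁻¹ * w * T) by group, h1, hwc]
    rw [pow_three, ← mul_assoc, ← mul_assoc]
  have hw1 : w = 1 := by
    have : w ^ 3 = 1 := by simpa using h3
    rw [pow_succ, h2, one_mul] at this
    exact this
  rw [h1, hw1, mul_one]

/-- A lift squaring modulo the centre an element of order seven squares it. -/
theorem t_square {E : Type*} [Group E] {T s d : E} (hs : s ^ 7 = 1) (hd : d * d = 1)
    (hsd : s * d * (s * d) = 1) (hTd : T⁻¹ * d * T = d)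
    (hw : (s * s)⁻¹ * (T⁻¹ * s * T) ∈ Subgroup.center E) : T⁻¹ * s * T = s * s := by
  set w := (s * s)⁻¹ * (T⁻¹ * s * T) with hwdef
  have h1 : T⁻¹ * s * T = s * s * w := by rw [hwdef, mul_inv_cancel_left]
  have hc := Subgroup.mem_center_iff.1 hw
  have h7 : w ^ 7 = 1 := by
    have e : (s * s * w) ^ 7 = 1 := by
      rw [← h1]
      calc (T⁻¹ * s * T) ^ 7 = T⁻¹ * s ^ 7 * T := by simp only [pow_succ, pow_zero]; group
        _ = 1 := by rw [hs]; group
    rwa [Commute.mul_pow (hc (s * s)), ← pow_two, ← pow_mul, show 2 * 7 = 7 * 2 from rfl, pow_mul, hs,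
      one_pow, one_mul] at e
  have hdsd : d * s * d = s⁻¹ := eq_inv_of_mul_eq_one_right (by rw [← hsd]; group)
  have hss : s * s * d * (s * s * d) = 1 := by
    calc s * s * d * (s * s * d) = s * s * (d * s * d) * (d * d)⁻¹ * (d * s * d) := by group
      _ = 1 := by rw [hdsd, hd]; group
  have h2 : w ^ 2 = 1 := by
    have e : s * s * w * d * (s * s * w * d) = 1 := by
      rw [← h1, show T⁻¹ * s * T * d = T⁻¹ * s * T * (T⁻¹ * d * T) by rw [hTd]]
      calc T⁻¹ * s * T * (T⁻¹ * d * T) * (T⁻¹ * s * T * (T⁻¹ * d * T))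
          = T⁻¹ * (s * d * (s * d)) * T := by group
        _ = 1 := by rw [hsd]; group
    rw [show s * s * w * d = s * s * d * w by rw [mul_assoc (s * s), ← hc d, mul_assoc (s * s) d w],
      show s * s * d * w * (s * s * d * w) = s * s * d * (w * (s * s * d)) * w by group,
      ← hc (s * s * d), show s * s * d * (s * s * d * w) * w = s * s * d * (s * s * d) * w ^ 2 by rw [pow_two w]; group,
      hss, one_mul] at e
    exact e
  have hw1 : w = 1 := by
    rw [show (7 : ℕ) = 2 * 3 + 1 from rfl, pow_succ, pow_mul, h2, one_pow, one_mul] at h7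
    exact h7
  rw [h1, hw1, mul_one]

/-- A lift of `t` acts on the lifts of `a b c d e s` as in `³D₄(2):3`. -/
theorem t_rels {E G : Type} [Group E] [Group G] (π : E →* G) (hc : π.ker ≤ Subgroup.center E)
    (j : P2 →* E) (ξ : P3 →* G) (hj : ∀ i, π (j (PresentedGroup.of i)) = ξ (PresentedGroup.of i.castSucc))
    (T : E) (hT : π T = ξ (PresentedGroup.of 6)) :
    (T ^ 3 ∈ π.ker) ∧
    (∀ i : Fin 5, T⁻¹ * j (PresentedGroup.of i.castSucc) * T = j (PresentedGroup.of i.castSucc)) ∧
      T⁻¹ * j (PresentedGroup.of 5) * T = j (PresentedGroup.of 5) * j (PresentedGroup.of 5) := by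
  have h3 : ∀ l ∈ DCoset.Th.HRels,
      PresentedGroup.mk (wordRels DCoset.Th.HRels) (FreeGroup.mk l) = 1 :=
    fun l hl => PresentedGroup.one_of_mem (List.mem_map_of_mem hl)
  have h2 : ∀ l ∈ ThChain2.relWords, PresentedGroup.mk (wordRels ThChain2.relWords) (FreeGroup.mk l) = 1 :=
    fun l hl => PresentedGroup.one_of_mem (List.mem_map_of_mem hl)
  have hT3 : T ^ 3 ∈ π.ker := by
    rw [MonoidHom.mem_ker, map_pow, hT, ← map_pow, show (PresentedGroup.of (6 : Fin 7) : P3) ^ 3 = 1 from ?_,
      map_one]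
    exact h3 [(6, true), (6, true), (6, true)] (by decide +kernel)
  have hsq : ∀ i : Fin 5, [(i.castSucc, true), (i.castSucc, true)] ∈ ThChain2.relWords := by decide +kernel
  have hcomm : ∀ i : Fin 5, [((6 : Fin 7), false), (i.castSucc.castSucc, false), (6, true),
      (i.castSucc.castSucc, true)] ∈ DCoset.Th.HRels := by decide +kernel
  have hfix : ∀ i : Fin 5, T⁻¹ * j (PresentedGroup.of i.castSucc) * T = j (PresentedGroup.of i.castSucc) := by
    intro i
    refine t_fix ?_ (hc hT3) (hc (MonoidHom.mem_ker.2 ?_))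
    · rw [← map_mul, show (PresentedGroup.of i.castSucc * PresentedGroup.of i.castSucc : P2) = 1 from
        h2 _ (hsq i), map_one]
    · have e : (PresentedGroup.of (6 : Fin 7))⁻¹ * (PresentedGroup.of i.castSucc.castSucc)⁻¹ *
          PresentedGroup.of (6 : Fin 7) * PresentedGroup.of i.castSucc.castSucc = (1 : P3) := by
        rw [← h3 _ (hcomm i)]
        simp only [PresentedGroup.of, ← map_inv, ← map_mul]
        rfl
      have e2 := congrArg ξ e
      simp only [map_mul, map_inv, map_one, ← hj, ← hT] at e2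
      simp only [map_mul, map_inv]
      generalize π T = t at e2 ⊢
      generalize π (j (PresentedGroup.of i.castSucc)) = x at e2 ⊢
      rw [← inv_eq_one] at e2
      simpa [mul_assoc] using e2
  refine ⟨hT3, hfix, ?_⟩
  refine t_square (d := j (PresentedGroup.of (3 : Fin 6))) ?_ ?_ ?_ (hfix 3) (hc (MonoidHom.mem_ker.2 ?_))
  · rw [← map_pow, show (PresentedGroup.of (5 : Fin 6) : P2) ^ 7 = 1 from
      h2 (List.replicate 7 (5, true)) (by decide +kernel), map_one]
  · rw [← map_mul, show (PresentedGroup.of (3 : Fin 6) * PresentedGroup.of 3 : P2) = 1 from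
      h2 [(3, true), (3, true)] (by decide +kernel), map_one]
  · rw [← map_mul, ← map_mul, show (PresentedGroup.of (5 : Fin 6) * PresentedGroup.of 3 *
      (PresentedGroup.of 5 * PresentedGroup.of 3) : P2) = 1 from
      h2 [(5, true), (3, true), (5, true), (3, true)] (by decide +kernel), map_one]
  · have e : (PresentedGroup.of (6 : Fin 7))⁻¹ * PresentedGroup.of (5 : Fin 7) * PresentedGroup.of (6 : Fin 7) *
        ((PresentedGroup.of (5 : Fin 7))⁻¹ * (PresentedGroup.of (5 : Fin 7))⁻¹) = (1 : P3) := by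
      rw [← h3 [(6, false), (5, true), (6, true), (5, false), (5, false)] (by decide +kernel)]
      simp only [PresentedGroup.of, ← map_inv, ← map_mul]
      rfl
    have e2 := congrArg ξ e
    simp only [map_mul, map_inv, map_one] at e2
    rw [show (5 : Fin 7) = (5 : Fin 6).castSucc from rfl, ← hj, ← hT, ← mul_inv_rev, mul_inv_eq_one] at e2
    rw [map_mul, map_inv, map_mul π (T⁻¹ * _), map_mul π T⁻¹, map_inv, e2, map_mul, inv_mul_cancel]

/-- The kernel of a central extension of `³D₄(2):3` meets the derived group trivially. -/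
theorem killed_P3 : Co1Mult.Killed P3 1 := by
  intro K _ _ π hs hc k hk hk'
  rw [pow_one]
  obtain ⟨-, ψ, -, hψ, -, hinj⟩ := exists_incl
  obtain ⟨j, hj⟩ := exists_lift2 π hs hc ψ
  have hj' : ∀ i, π (j (PresentedGroup.of i)) = PresentedGroup.of i.castSucc := fun i => by
    rw [← MonoidHom.comp_apply, hj, hψ]
  obtain ⟨T, hT⟩ := hs (PresentedGroup.of 6)
  obtain ⟨hT3, hfix, hsq⟩ := t_rels π hc j (MonoidHom.id _) hj' T hT
  let N := j.range
  let f : K →* K := (MulAut.conj T⁻¹).toMonoidHom
  have hf : ∀ x, f x = T⁻¹ * x * T := fun x => by simp [f]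
  have hmap : ∀ x ∈ N, T⁻¹ * x * T ∈ N := by
    rintro _ ⟨p, rfl⟩
    have hle : (⊤ : Subgroup P2) ≤ N.comap (f.comp j) := by
      rw [← PresentedGroup.closure_range_of, Subgroup.closure_le]
      rintro _ ⟨i, rfl⟩
      rw [SetLike.mem_coe, Subgroup.mem_comap, MonoidHom.comp_apply, hf]
      by_cases hi : i.val < 5
      · rw [show i = (⟨i.val, hi⟩ : Fin 5).castSucc from rfl, hfix]
        exact ⟨_, rfl⟩
      · rw [show i = 5 from Fin.ext (by have := i.isLt; show i.val = 5; omega), hsq, ← map_mul]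
        exact ⟨_, rfl⟩
    have := hle (Subgroup.mem_top p)
    rwa [Subgroup.mem_comap, MonoidHom.comp_apply, hf] at this
  have hcK : ∀ z ∈ π.ker, z ∈ Subgroup.normalizer (N : Set K) := fun z hz => by
    rw [Subgroup.mem_normalizer_iff]
    intro h
    have e : z * h * z⁻¹ = h := by
      rw [← Subgroup.mem_center_iff.1 (hc hz) h, mul_inv_cancel_right]
    rw [e]
  have hgen : Subgroup.closure ((N : Set K) ∪ ↑π.ker ∪ {T}) = ⊤ := by
    rw [eq_top_iff]
    intro x _
    have h1 : π x ∈ (Subgroup.closure ((N : Set K) ∪ ↑π.ker ∪ {T})).map π := by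
      refine (?_ : (⊤ : Subgroup P3) ≤ _) (Subgroup.mem_top _)
      rw [← PresentedGroup.closure_range_of, Subgroup.closure_le]
      rintro _ ⟨i, rfl⟩
      by_cases hi : i.val < 6
      · exact ⟨_, Subgroup.subset_closure (Or.inl (Or.inl ⟨PresentedGroup.of ⟨i.val, hi⟩, rfl⟩)),
          (hj' _).trans rfl⟩
      · rw [show i = 6 from Fin.ext (by have := i.isLt; show i.val = 6; omega)]
        exact ⟨T, Subgroup.subset_closure (Or.inr rfl), hT⟩
    obtain ⟨y, hy, hyx⟩ := h1
    rw [show x = y * (y⁻¹ * x) by group]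
    refine mul_mem hy (Subgroup.subset_closure (Or.inl (Or.inr ?_)))
    rw [SetLike.mem_coe, MonoidHom.mem_ker, map_mul, map_inv, hyx, inv_mul_cancel]
  have hNn : N.Normal := by
    have hTn : T ∈ Subgroup.normalizer (N : Set K) := by
      have h3 : ∀ h, T * h * T⁻¹ = T⁻¹ * (T⁻¹ * h * T) * T := fun h => by
        have e := Subgroup.mem_center_iff.1 (hc hT3) h
        calc T * h * T⁻¹ = T⁻¹ * T⁻¹ * (T ^ 3 * h) * T⁻¹ := by group
          _ = T⁻¹ * T⁻¹ * (h * T ^ 3) * T⁻¹ := by rw [e]
          _ = _ := by rw [pow_three]; group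
      rw [Subgroup.mem_normalizer_iff]
      intro h
      refine ⟨fun hh => h3 h ▸ hmap _ (hmap _ hh), fun hh => ?_⟩
      have := hmap _ hh
      rwa [show T⁻¹ * (T * h * T⁻¹) * T = h by group] at this
    refine Subgroup.normalizer_eq_top_iff.1 (eq_top_iff.2 ?_)
    rw [← hgen, Subgroup.closure_le]
    rintro x ((hx | hx) | hx)
    · exact Subgroup.le_normalizer hx
    · exact hcK x hx
    · rw [Set.mem_singleton_iff.1 hx]; exact hTn
  have hle : commutator K ≤ N := by
    let q := QuotientGroup.mk' N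
    have hz : ∀ x : K, ∀ g ∈ (N : Set K) ∪ ↑π.ker ∪ {T}, q g = 1 ∨ g ∈ π.ker ∨ g = T := by
      rintro x g ((hg | hg) | hg)
      · exact Or.inl ((QuotientGroup.eq_one_iff g).2 hg)
      · exact Or.inr (Or.inl hg)
      · exact Or.inr (Or.inr hg)
    have hab : ∀ a ∈ (N : Set K) ∪ ↑π.ker ∪ {T}, ∀ b ∈ (N : Set K) ∪ ↑π.ker ∪ {T},
        q a * q b = q b * q a := by
      intro a ha b hb
      rcases hz a a ha with h | h | h
      · rw [h, one_mul, mul_one]
      · rw [← map_mul, ← map_mul, Subgroup.mem_center_iff.1 (hc h) b]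
      rcases hz b b hb with h' | h' | h'
      · rw [h', one_mul, mul_one]
      · rw [← map_mul, ← map_mul, Subgroup.mem_center_iff.1 (hc h') a]
      · rw [h, h']
    have htop : ∀ x, q x ∈ Subgroup.closure (q '' ((N : Set K) ∪ ↑π.ker ∪ {T})) := fun x => by
      rw [← MonoidHom.map_closure, hgen]
      exact ⟨x, Subgroup.mem_top x, rfl⟩
    rw [commutator_def, Subgroup.commutator_le]
    intro x _ y _
    rw [← QuotientGroup.eq_one_iff]
    show q ⁅x, y⁆ = 1
    rw [map_commutatorElement, commutatorElement_eq_one_iff_mul_comm]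
    have hcomm := Subgroup.isMulCommutative_closure (k := q '' ((N : Set K) ∪ ↑π.ker ∪ {T}))
      (by rintro _ ⟨a, ha, rfl⟩ _ ⟨b, hb, rfl⟩; exact hab a ha b hb)
    exact congrArg Subtype.val (hcomm.is_comm.comm ⟨_, htop x⟩ ⟨_, htop y⟩)
  obtain ⟨p, rfl⟩ := hle hk'
  rw [MonoidHom.mem_ker, ← MonoidHom.comp_apply, hj] at hk
  rw [hinj (hk.trans (map_one ψ).symm), map_one]

theorem killed_cyclic {Q : Type} [Group Q] [IsCyclic Q] : Co1Mult.Killed Q 1 := by
  intro K _ _ π _ hc k _ hk'
  have hcomm : ∀ a b : K, a * b = b * a := commutative_of_cyclic_center_quotient π hc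
  rw [pow_one]
  have hle : commutator K ≤ ⊥ := by
    rw [commutator_def, Subgroup.commutator_le]
    exact fun a _ b _ => Subgroup.mem_bot.2 (commutatorElement_eq_one_iff_mul_comm.2 (hcomm a b))
  exact Subgroup.mem_bot.1 (hle hk')

theorem killed_sylow {Q : Type} [Group Q] [Finite Q] {p m : ℕ} (hp : p.Prime)
    (hcard : Nat.card Q = p * m) (hm : ¬ p ∣ m) : Co1Mult.Killed Q m := by
  haveI := Fact.mk hp
  let P : Sylow p Q := Classical.arbitrary _
  have hm0 : m ≠ 0 := fun h => hm (h ▸ dvd_zero p)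
  have hP : Nat.card (P : Subgroup Q) = p := by
    rw [Sylow.card_eq_multiplicity, hcard, Nat.factorization_mul hp.ne_zero hm0, Finsupp.add_apply,
      hp.factorization_self, Nat.factorization_eq_zero_of_not_dvd hm, add_zero, pow_one]
  have : IsCyclic (P : Subgroup Q) := isCyclic_of_prime_card hP
  have hi : (P : Subgroup Q).index = m := by
    have h := (P : Subgroup Q).card_mul_index
    rw [hP, hcard] at h
    exact Nat.eq_of_mul_eq_mul_left hp.pos h
  have h := Co1Mult.killed_subgroup (P : Subgroup Q) killed_cyclic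
  rwa [hi, mul_one] at h

/-- Kernels of stem extensions of `Th` have exponent dividing 243000. -/
theorem killed_th (hbig : DCoset.Th.Big) : Co1Mult.Killed DCoset.Th.GTh 243000 := by
  obtain ⟨hcard, hidx, -, hinj⟩ := DCoset.Th.exact_of_big hbig
  have hfin : Finite DCoset.Th.GTh := DCoset.Th.th_finite.1
  let e : P3 ≃* DCoset.Th.iota.range := MonoidHom.ofInjective hinj
  have hH : Co1Mult.Killed DCoset.Th.iota.range 1 := by
    intro K _ _ π hs hc k hk hk'
    refine killed_P3 K (e.symm.toMonoidHom.comp π) (e.symm.surjective.comp hs) (fun x hx => hc ?_) k ?_ hk'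
    · exact MonoidHom.mem_ker.2 (e.symm.map_eq_one_iff.1 hx)
    · rw [MonoidHom.mem_ker, MonoidHom.comp_apply, MonoidHom.mem_ker.1 hk, map_one]
  intro K _ _ π hs hc k hk hk'
  have h0 := Co1Mult.killed_subgroup DCoset.Th.iota.range hH K π hs hc k hk hk'
  rw [hidx, mul_one] at h0
  have key : ∀ p m : ℕ, p.Prime → 90745943887872000 = p * m → ¬ p ∣ m → k ^ m = 1 :=
    fun p m hp he hm => killed_sylow hp (hcard.trans he) hm K π hs hc k hk hk'
  have h19 := key 19 4776102309888000 (by norm_num) (by norm_num) (by norm_num)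
  have h31 := key 31 2927288512512000 (by norm_num) (by norm_num) (by norm_num)
  rw [← orderOf_dvd_iff_pow_eq_one] at h0 h19 h31 ⊢
  have h := Nat.dvd_gcd (Nat.dvd_gcd h0 h19) h31
  norm_num at h
  exact h

end Cfsg.Agent.ThMult
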