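import Cfsg.Agent.ThMult.Sound
import Cfsg.Agent.ThMult.Lift
import Cfsg.Agent.ProjExt.Stem

/-! The Schur multiplier of the presented Thompson group is trivial, given its order. -/

set_option autoImplicit false
set_option maxRecDepth 100000

namespace Cfsg.Agent.ThMult

open Cfsg.Agent.DCoset Cfsg.Agent.CosetCert
open Cfsg.Agent.LyMult (kp kp_congr kp_zero kp_add kp_single kp_mem)
open Cfsg.Agent.DCoset.Th (GTh HGroup iota ql ql_append gU gCode vLet uLet genOf baseWords substU thRels wG qL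
  ql_eq okL tupOf)
open Cfsg.Spor.Th (Gen)
open scoped commutatorElement

variable {E : Type} [Group E]

theorem wE_nil (ι : HGroup →* E) (U : E) : wE ι U [] = 1 := rfl

theorem wE_append (ι : HGroup →* E) (U : E) (l m : List (Gen × Bool)) :
    wE ι U (l ++ m) = wE ι U l * wE ι U m := by
  simp [wE]

theorem wE_cons (ι : HGroup →* E) (U : E) (x : Gen × Bool) (l : List (Gen × Bool)) :
    wE ι U (x :: l) = evE ι U x * wE ι U l := by
  simp [wE]

/-- The images of the generators. -/
def genE (ι : HGroup →* E) (U : E) (g : Gen) : E := evE ι U (g, true)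

theorem evE_inv (ι : HGroup →* E) (U : E) (g : Gen) : evE ι U (g, false) = (genE ι U g)⁻¹ := by
  by_cases h : g = Gen.u
  · subst h; rfl
  · rw [genE, evE, evE, if_neg h, if_neg h, ← map_inv]
    congr 1
    have e := ql_invRev [(g, true)] (by simpa using h)
    simpa [FreeGroup.invRev] using e

theorem wE_lift (ι : HGroup →* E) (U : E) : ∀ l : List (Gen × Bool),
    wE ι U l = FreeGroup.lift (genE ι U) (FreeGroup.mk l)
  | [] => by simp [wE_nil, ← FreeGroup.one_eq_mk]
  | (g, b) :: l => by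
    rw [wE_cons, wE_lift ι U l, FreeGroup.lift_mk, FreeGroup.lift_mk, List.map_cons, List.prod_cons]
    congr 1
    cases b
    · exact evE_inv ι U g
    · rfl

theorem pi_wE {π : E →* GTh} {ι : HGroup →* E} {U : E} (hι : π.comp ι = iota) (hU : π U = gU)
    (l : List (Gen × Bool)) : π (wE ι U l) = wG l := by
  have h : π.comp (FreeGroup.lift (genE ι U)) = PresentedGroup.mk thRels := FreeGroup.ext_hom _ _ fun g => by
    rw [MonoidHom.comp_apply, FreeGroup.lift_apply_of, genE, evE]
    by_cases hg : g = Gen.u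
    · subst hg
      rw [if_pos rfl]
      exact hU
    · rw [if_neg hg, ← MonoidHom.comp_apply, hι]
      exact (Th.iota_code (g, true) hg).trans rfl
  rw [wE_lift, ← MonoidHom.comp_apply, h]
  rfl

theorem cpow {E : Type*} [Group E] {x m : E} (hm : m ∈ Subgroup.center E) (n : ℕ) :
    (x * m) ^ n = x ^ n * m ^ n :=
  Commute.mul_pow (Subgroup.mem_center_iff.1 hm x) n

/-- The lifts. -/
structure Lifts (π : E →* GTh) (ι : HGroup →* E) (U z : E) : Prop where
  proj : π.comp ι = iota
  projU : π U = gU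
  zc : z ∈ π.ker
  sq : U * U = ι (ql [0, 2]) * z
  t : U * ι (ql [8]) = ι (ql [6]) * U
  norm : wE ι U (baseWords.getD 3 []) = z ^ 2

theorem hrels_split : ∀ l ∈ Th.HRels,
    l ∈ ThChain2.relWords.map (List.map fun a => ((Fin.castSucc a.1 : Fin 7), a.2)) ∨
      l = [(6, true), (6, true), (6, true)] ∨
      (∃ i : Fin 5, l = [(6, false), (i.castSucc.castSucc, false), (6, true), (i.castSucc.castSucc, true)]) ∨
      l = [(6, false), (5, true), (6, true), (5, false), (5, false)] := by
  decide +kernel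

/-- The image of a generator of `⟨a, b, c, d, e, s, t⟩`. -/
def gen7 (j : P2 →* E) (T : E) (i : Fin 7) : E :=
  if h : i.val < 6 then j (PresentedGroup.of ⟨i.val, h⟩) else T

theorem base3_shape : (baseWords.getD 3 []).filter (fun x => decide (x.1 = Gen.u)) = List.replicate 3 (Gen.u, true) := by
  decide +kernel

theorem wE_scale (ι : HGroup →* E) (U m : E) (hm : m ∈ Subgroup.center E) : ∀ l : List (Gen × Bool),
    (∀ x ∈ l, x.1 = Gen.u → x.2 = true) →
      wE ι (U * m) l = wE ι U l * m ^ (l.filter fun x => decide (x.1 = Gen.u)).length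
  | [], _ => by simp [wE_nil]
  | (g, b) :: l, h => by
    have ih := wE_scale ι U m hm l fun x hx => h x (List.mem_cons_of_mem _ hx)
    rw [wE_cons, wE_cons, ih]
    by_cases hg : g = Gen.u
    · subst hg
      obtain rfl : b = true := h _ List.mem_cons_self rfl
      rw [List.filter_cons_of_pos (by simp), List.length_cons, pow_succ]
      show U * m * (wE ι U l * m ^ _) = U * wE ι U l * (m ^ _ * m)
      have e := Subgroup.mem_center_iff.1 hm
      calc U * m * (wE ι U l * m ^ _) = U * (m * (wE ι U l * m ^ _)) := mul_assoc _ _ _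
        _ = U * (wE ι U l * m ^ _ * m) := by rw [← e]
        _ = _ := by simp only [mul_assoc]
    · rw [List.filter_cons_of_neg (by simpa using hg), evE, evE, if_neg hg, if_neg hg, mul_assoc]

theorem base_words_one (j : Fin 6) : wG (baseWords.getD j.val []) = 1 := Th.base_one j.isLt

/-- Lifts of the generators, normalised. -/
theorem exists_setup (π : E →* GTh) (hs : Function.Surjective π) (hc : π.ker ≤ Subgroup.center E) :
    ∃ ι U z, Lifts π ι U z := by
  obtain ⟨-, ψ, -, hψ, -, -⟩ := exists_incl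
  obtain ⟨j, hj⟩ := exists_lift2 π hs hc (iota.comp ψ)
  have hj' : ∀ i, π (j (PresentedGroup.of i)) = iota (PresentedGroup.of i.castSucc) := fun i => by
    rw [← MonoidHom.comp_apply, hj, MonoidHom.comp_apply, hψ]
  obtain ⟨T0, hT0⟩ := hs (iota (PresentedGroup.of 6))
  obtain ⟨u0, hu0⟩ := hs gU
  let c := T0 ^ 3
  let w := u0⁻¹ * T0 * u0 * T0
  have hc3 : c ∈ π.ker := (t_rels π hc j iota hj' T0 hT0).1
  have e8 : ql [8] = (PresentedGroup.of (6 : Fin 7) : HGroup)⁻¹ := by simp [ql, qL, Th.letWord, Th.qB]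
  have e6 : ql [6] = (PresentedGroup.of (6 : Fin 7) : HGroup) := by simp [ql, qL, Th.letWord, Th.qB]
  have hut := Th.u_t
  rw [e8, e6, map_inv] at hut
  have hw : w ∈ π.ker := by
    rw [MonoidHom.mem_ker]
    simp only [w, map_mul, map_inv, hT0, hu0]
    rw [show gU⁻¹ * iota (PresentedGroup.of 6) * gU = (iota (PresentedGroup.of 6))⁻¹ by
      rw [mul_assoc, ← hut, inv_mul_cancel_left], inv_mul_cancel]
  have hconj : u0⁻¹ * T0 * u0 = T0⁻¹ * w := by
    rw [Subgroup.mem_center_iff.1 (hc hw) T0⁻¹]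
    simp [w, mul_assoc]
  have hw3 : w ^ 3 = c ^ 2 := by
    have e : (u0⁻¹ * T0 * u0) ^ 3 = c := by
      calc (u0⁻¹ * T0 * u0) ^ 3 = u0⁻¹ * c * u0 := by simp only [c, pow_succ, pow_zero]; group
        _ = c := by rw [mul_assoc, ← Subgroup.mem_center_iff.1 (hc hc3) u0, inv_mul_cancel_left]
    rw [hconj, cpow (hc hw), inv_pow, inv_mul_eq_iff_eq_mul] at e
    rw [e, pow_two]
  let y := w * c⁻¹
  have hy : y ∈ π.ker := mul_mem hw (inv_mem hc3)
  let T := T0 * y
  have hT : π T = iota (PresentedGroup.of 6) := by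
    rw [map_mul, hT0, MonoidHom.mem_ker.1 hy, mul_one]
  obtain ⟨-, hfix, hsq⟩ := t_rels π hc j iota hj' T hT
  have hwc : Commute w c⁻¹ := (Subgroup.mem_center_iff.1 (inv_mem (hc hc3)) w)
  have hT3 : T ^ 3 = 1 := by
    rw [cpow (hc hy)]
    show c * (w * c⁻¹) ^ 3 = 1
    rw [hwc.mul_pow, hw3]
    group
  have hut' : u0⁻¹ * T * u0 * T = 1 := by
    have hyc := Subgroup.mem_center_iff.1 (hc hy)
    have e : u0⁻¹ * T * u0 * T = w * y ^ 2 := by
      show u0⁻¹ * (T0 * y) * u0 * (T0 * y) = u0⁻¹ * T0 * u0 * T0 * y ^ 2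
      calc u0⁻¹ * (T0 * y) * u0 * (T0 * y) = u0⁻¹ * T0 * (y * (u0 * T0)) * y := by group
        _ = u0⁻¹ * T0 * (u0 * T0 * y) * y := by rw [show y * (u0 * T0) = u0 * T0 * y from (hyc _).symm]
        _ = _ := by rw [pow_two]; group
    rw [e]
    show w * (w * c⁻¹) ^ 2 = 1
    rw [hwc.mul_pow, ← mul_assoc, ← pow_succ', hw3]
    group
  have hr : ∀ r ∈ wordRels Th.HRels, FreeGroup.lift (gen7 j T) r = 1 := by
    intro r hr
    obtain ⟨l, hl, rfl⟩ := List.mem_map.1 hr
    have gh : ∀ i : Fin 6, gen7 j T i.castSucc = j (PresentedGroup.of i) := fun i => dif_pos i.isLt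
    have g6 : gen7 j T 6 = T := rfl
    rcases hrels_split l hl with h | rfl | ⟨i, rfl⟩ | rfl
    · obtain ⟨v, hv, rfl⟩ := List.mem_map.1 h
      have e : FreeGroup.mk (v.map fun a => ((Fin.castSucc a.1 : Fin 7), a.2)) =
          FreeGroup.map Fin.castSucc (FreeGroup.mk v) := by rw [FreeGroup.map.mk]
      rw [e, show FreeGroup.lift (gen7 j T) (FreeGroup.map Fin.castSucc (FreeGroup.mk v)) =
        j (PresentedGroup.mk _ (FreeGroup.mk v)) from ?_,
        PresentedGroup.one_of_mem (List.mem_map_of_mem hv), map_one]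
      rw [← MonoidHom.comp_apply, ← MonoidHom.comp_apply]
      congr 1
      exact FreeGroup.ext_hom _ _ fun i => by simp [gh, PresentedGroup.of]
    · simp [FreeGroup.lift_mk, g6]
      rw [← hT3, pow_three]
    · simp only [FreeGroup.lift_mk, List.map_cons, List.map_nil, List.prod_cons, List.prod_nil,
        cond_true, cond_false, mul_one, gh, g6]
      rw [show T⁻¹ * ((j (PresentedGroup.of i.castSucc))⁻¹ * (T * j (PresentedGroup.of i.castSucc))) =
        (T⁻¹ * j (PresentedGroup.of i.castSucc) * T)⁻¹ * j (PresentedGroup.of i.castSucc) by group, hfix,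
        inv_mul_cancel]
    · simp only [FreeGroup.lift_mk, List.map_cons, List.map_nil, List.prod_cons, List.prod_nil,
        cond_true, cond_false, mul_one, g6, show gen7 j T 5 = j (PresentedGroup.of 5) from rfl]
      rw [← mul_inv_rev, ← hsq]
      group
  let ι : HGroup →* E := PresentedGroup.toGroup hr
  have hproj : π.comp ι = iota := PresentedGroup.ext fun i => by
    rw [MonoidHom.comp_apply, show ι (PresentedGroup.of i) = gen7 j T i from PresentedGroup.toGroup.of hr, gen7]
    split_ifs with h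
    · exact hj' _
    · rw [hT, show i = 6 from Fin.ext (by have := i.isLt; show i.val = 6; omega)]
  have hιT : ι (PresentedGroup.of 6) = T := PresentedGroup.toGroup.of hr
  let z0 := (ι (ql [0, 2]))⁻¹ * (u0 * u0)
  have hz0 : z0 ∈ π.ker := by
    rw [MonoidHom.mem_ker]
    simp only [z0, map_mul, map_inv, hu0, ← MonoidHom.comp_apply, hproj]
    rw [Th.u_sq, inv_mul_cancel]
  let s3 := wE ι u0 (baseWords.getD 3 [])
  have hs3 : s3 ∈ π.ker := by
    rw [MonoidHom.mem_ker, pi_wE hproj hu0]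
    exact Th.base_one (by norm_num)
  let m := s3 * (z0 ^ 2)⁻¹
  have hm : m ∈ π.ker := mul_mem hs3 (inv_mem (pow_mem hz0 2))
  have hmc := Subgroup.mem_center_iff.1 (hc hm)
  refine ⟨ι, u0 * m, z0 * m ^ 2, hproj, ?_, mul_mem hz0 (pow_mem hm 2), ?_, ?_, ?_⟩
  · rw [map_mul, hu0, MonoidHom.mem_ker.1 hm, mul_one]
  · show u0 * m * (u0 * m) = ι (ql [0, 2]) * ((ι (ql [0, 2]))⁻¹ * (u0 * u0) * m ^ 2)
    rw [← mul_assoc (ι (ql [0, 2])), mul_inv_cancel_left, pow_two]
    calc u0 * m * (u0 * m) = u0 * (m * u0) * m := by group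
      _ = u0 * (u0 * m) * m := by rw [show m * u0 = u0 * m from (hmc _).symm]
      _ = _ := by group
  · rw [e8, e6, map_inv, hιT, mul_assoc u0, ← hmc T⁻¹]
    calc u0 * (T⁻¹ * m) = u0 * (u0⁻¹ * T * u0 * T) * T⁻¹ * m := by rw [hut', mul_one, mul_assoc]
      _ = T * (u0 * m) := by group
  · rw [wE_scale ι u0 m (hc hm) _ ?_, base3_shape, List.length_replicate]
    · have hzc : Commute z0 (m ^ 2) := (Subgroup.mem_center_iff.1 (hc (pow_mem hm 2)) z0)
      rw [hzc.mul_pow, ← pow_mul, show 2 * 2 = 3 + 1 from rfl, pow_succ' m 3, ← mul_assoc]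
      congr 1
      show s3 = z0 ^ 2 * (s3 * (z0 ^ 2)⁻¹)
      rw [← mul_assoc, Subgroup.mem_center_iff.1 (hc hs3) (z0 ^ 2), mul_assoc, mul_inv_cancel, mul_one]
    · intro x hx hu
      have : x ∈ (baseWords.getD 3 []).filter (fun x => decide (x.1 = Gen.u)) :=
        List.mem_filter.2 ⟨hx, by simpa using hu⟩
      rw [base3_shape] at this
      rw [List.eq_of_mem_replicate this]

theorem ql_sq : ∀ k : Fin 7, k.val ≠ 3 → (okL [uLet.getD k.val 0, uLet.getD k.val 0] && okL [] &&
    Nat.beq (tupOf [uLet.getD k.val 0, uLet.getD k.val 0]) (tupOf [])) = true ∧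
    (okL [vLet.getD k.val 0, vLet.getD k.val 0] && okL [] &&
    Nat.beq (tupOf [vLet.getD k.val 0, vLet.getD k.val 0]) (tupOf [])) = true := by
  decide +kernel

variable {π : E →* GTh} {ι : HGroup →* E} {U z : E}

/-- The central value of the `k`th conjugation. -/
def om (ι : HGroup →* E) (U : E) (k : Nat) : E :=
  (ι (ql [vLet.getD k 0]))⁻¹ * (U⁻¹ * ι (ql [uLet.getD k 0]) * U)

theorem om_ker (L : Lifts π ι U z) {k : Nat} (hk : k < 7) : om ι U k ∈ π.ker := by
  rw [MonoidHom.mem_ker]
  simp only [om, map_mul, map_inv, L.projU, ← MonoidHom.comp_apply, L.proj]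
  rw [mul_assoc gU⁻¹, ← Th.u_rules k hk, inv_mul_cancel_left, inv_mul_cancel]

theorem om_sq (L : Lifts π ι U z) (hc : π.ker ≤ Subgroup.center E) (k : Fin 7) (h3 : k.val ≠ 3) :
    om ι U k.val ^ 2 = 1 := by
  obtain ⟨h1, h2⟩ := ql_sq k h3
  have e1 : ι (ql [uLet.getD k.val 0]) * ι (ql [uLet.getD k.val 0]) = 1 := by
    rw [← map_mul, ← ql_append]
    exact (congrArg ι (ql_eq (m := []) h1)).trans (map_one ι)
  have e2 : ι (ql [vLet.getD k.val 0]) * ι (ql [vLet.getD k.val 0]) = 1 := by
    rw [← map_mul, ← ql_append]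
    exact (congrArg ι (ql_eq (m := []) h2)).trans (map_one ι)
  have e : (ι (ql [vLet.getD k.val 0]) * om ι U k.val) ^ 2 = 1 := by
    rw [om, mul_inv_cancel_left, pow_two]
    calc U⁻¹ * ι (ql [uLet.getD k.val 0]) * U * (U⁻¹ * ι (ql [uLet.getD k.val 0]) * U)
        = U⁻¹ * (ι (ql [uLet.getD k.val 0]) * ι (ql [uLet.getD k.val 0])) * U := by group
      _ = 1 := by rw [e1]; group
  rwa [cpow (hc (om_ker L k.isLt)), pow_two (ι _), e2, one_mul] at e

/-- The two coordinates of an element of exponent dividing 243000. -/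
def crtA (x : E) : E := x ^ 26001
/-- The second coordinate. -/
def crtB (x : E) : E := x ^ 217000

theorem crt_spec {x : E} (h : x ^ 243000 = 1) :
    crtA x ^ 1000 = 1 ∧ crtB x ^ 243 = 1 ∧ crtA x * crtB x = x := by
  refine ⟨?_, ?_, ?_⟩
  · rw [crtA, ← pow_mul, show 26001 * 1000 = 243000 * 107 from rfl, pow_mul, h, one_pow]
  · rw [crtB, ← pow_mul, show 217000 * 243 = 243000 * 217 from rfl, pow_mul, h, one_pow]
  · rw [crtA, crtB, ← pow_add, show 26001 + 217000 = 243000 + 1 from rfl, pow_succ, h, one_mul]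

/-- The unknown values. -/
def kvOf (ι : HGroup →* E) (U z : E) (i : Nat) : E :=
  [crtA z, crtB z,
    crtA (wE ι U (baseWords.getD 1 []) * (z ^ 3)⁻¹), crtB (wE ι U (baseWords.getD 1 []) * (z ^ 3)⁻¹),
    crtA (wE ι U (baseWords.getD 4 []) * (z ^ 4)⁻¹), crtB (wE ι U (baseWords.getD 4 []) * (z ^ 4)⁻¹),
    crtA (wE ι U (baseWords.getD 5 [])), crtB (wE ι U (baseWords.getD 5 [])),
    wE ι U (baseWords.getD 0 []) * (z ^ 2)⁻¹,
    om ι U 0, om ι U 1, om ι U 2, om ι U 4, om ι U 5, om ι U 6,
    wE ι U (baseWords.getD 2 []) * z⁻¹].getD i 1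

theorem u_inv_eq (L : Lifts π ι U z) (hc : π.ker ≤ Subgroup.center E) :
    U * (ι (ql [2]) * ι (ql [0])) = U⁻¹ * z := by
  have e : ι (ql [2]) * ι (ql [0]) = (ι (ql [0, 2]))⁻¹ := by
    refine eq_inv_of_mul_eq_one_left ?_
    rw [← map_mul, ← map_mul, ← ql_append, ← ql_append, ql_eq (m := []) (by decide +kernel)]
    exact map_one ι
  rw [e, show ι (ql [0, 2]) = U * U * z⁻¹ by rw [L.sq, mul_inv_cancel_right], mul_inv_rev, inv_inv, mul_inv_rev,
    ← mul_assoc, Subgroup.mem_center_iff.1 (hc L.zc) U, mul_assoc, mul_inv_cancel_left,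
    ← Subgroup.mem_center_iff.1 (hc L.zc) U⁻¹]

theorem v31_cube (L : Lifts π ι U z) (hc : π.ker ≤ Subgroup.center E) :
    (wE ι U (baseWords.getD 0 []) * (z ^ 2)⁻¹) ^ 3 = 1 := by
  have hz := Subgroup.mem_center_iff.1 (hc L.zc)
  let p := ι (ql [3]) * ι (ql [4])
  let q := U⁻¹ * ι (ql [3]) * U
  have hd : ι (ql [3]) * ι (ql [3]) = 1 := by
    rw [← map_mul, ← ql_append, ql_eq (m := []) (by decide +kernel)]; exact map_one ι
  have hq : q * q = 1 := by
    calc q * q = U⁻¹ * (ι (ql [3]) * ι (ql [3])) * U := by simp only [q]; group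
      _ = 1 := by rw [hd]; group
  have hp : p ^ 3 = 1 := by
    rw [pow_three]
    simp only [p, ← map_mul, ← ql_append]
    rw [ql_eq (m := []) (by decide +kernel)]
    exact map_one ι
  have h0 : wE ι U (baseWords.getD 0 []) = (p * q) ^ 2 * z ^ 2 := by
    have hl : baseWords.getD 0 [] = [(Gen.d, true), (.e, true), (.u, true), (.c, true), (.a, true), (.d, true),
        (.u, true), (.d, true), (.e, true), (.u, true), (.c, true), (.a, true), (.d, true), (.u, true)] := by
      decide +kernel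
    have hb : wE ι U (baseWords.getD 0 []) =
        p * ((U * (ι (ql [2]) * ι (ql [0]))) * (ι (ql [3]) * U)) *
          (p * ((U * (ι (ql [2]) * ι (ql [0]))) * (ι (ql [3]) * U))) := by
      rw [hl]
      simp [wE, evE, gCode, p, mul_assoc]
    rw [hb, u_inv_eq L hc, show p * (U⁻¹ * z * (ι (ql [3]) * U)) = p * q * z by
      rw [mul_assoc U⁻¹ z, ← hz, mul_assoc p, show U⁻¹ * (ι (ql [3]) * U * z) = q * z by simp [q, mul_assoc]],
      ← pow_two, cpow (hc L.zc)]
  rw [h0, mul_inv_cancel_right]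
  have hv : (p * q) ^ 2 ∈ Subgroup.center E := by
    have : wE ι U (baseWords.getD 0 []) ∈ π.ker := by
      rw [MonoidHom.mem_ker, pi_wE L.proj L.projU]; exact Th.base_one (by norm_num)
    have h' := mul_mem (hc this) (inv_mem (pow_mem (hc L.zc) 2))
    rwa [h0, mul_inv_cancel_right] at h'
  set v := (p * q) ^ 2 with hvdef
  have e : q * p * q = p⁻¹ * v := by rw [hvdef, pow_two]; group
  have e3 : (q * p * q) ^ 3 = 1 := by
    calc (q * p * q) ^ 3 = q * p * (q * q) * p * (q * q) * p * q := by simp only [pow_succ, pow_zero]; group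
      _ = q * p ^ 3 * q := by rw [hq, pow_three]; group
      _ = 1 := by rw [hp, mul_one, hq]
  rwa [e, cpow hv, inv_pow, hp, inv_one, one_mul] at e3

theorem v35_sq (L : Lifts π ι U z) (hc : π.ker ≤ Subgroup.center E) :
    (wE ι U (baseWords.getD 2 []) * z⁻¹) ^ 2 = 1 := by
  have hz := Subgroup.mem_center_iff.1 (hc L.zc)
  let P := ι (ql [7]) * ι (ql [7]) * U⁻¹ * ι (ql [5]) * ι (ql [5])
  let e := ι (ql [4])
  have h57 : ι (ql [5]) = (ι (ql [7]))⁻¹ := by
    refine eq_inv_of_mul_eq_one_left ?_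
    rw [← map_mul, ← ql_append, ql_eq (m := []) (by decide +kernel)]; exact map_one ι
  have he : e * e = 1 := by
    rw [← map_mul, ← ql_append, ql_eq (m := []) (by decide +kernel)]; exact map_one ι
  have hl : baseWords.getD 2 [] = [(Gen.e, false), (.s, false), (.s, false), (.u, true), (.c, true), (.a, true),
      (.s, true), (.s, true), (.e, true), (.s, false), (.s, false), (.u, true), (.s, true), (.s, true)] := by
    decide +kernel
  have hb : wE ι U (baseWords.getD 2 []) = e * P * e * P⁻¹ * z := by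
    have : wE ι U (baseWords.getD 2 []) = e * (ι (ql [7]) * ι (ql [7]) *
        (U * (ι (ql [2]) * ι (ql [0]))) * ι (ql [5]) * ι (ql [5])) * e *
        (ι (ql [7]) * ι (ql [7]) * U * ι (ql [5]) * ι (ql [5])) := by
      rw [hl]
      simp [wE, evE, gCode, e, mul_assoc]
    rw [this, u_inv_eq L hc,
      show ι (ql [7]) * ι (ql [7]) * (U⁻¹ * z) * ι (ql [5]) * ι (ql [5]) = P * z by
        simp only [P, mul_assoc]
        rw [← hz (ι (ql [5]) * ι (ql [5]))]
        simp only [mul_assoc]
      ,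
      show ι (ql [7]) * ι (ql [7]) * U * ι (ql [5]) * ι (ql [5]) = P⁻¹ by
        simp only [P, h57, mul_inv_rev, inv_inv]
        group]
    calc e * (P * z) * e * P⁻¹ = e * P * (z * (e * P⁻¹)) := by group
      _ = e * P * (e * P⁻¹ * z) := by rw [hz]
      _ = _ := by group
  rw [hb, mul_inv_cancel_right]
  have hv : e * P * e * P⁻¹ ∈ Subgroup.center E := by
    have h1 : wE ι U (baseWords.getD 2 []) ∈ π.ker := by
      rw [MonoidHom.mem_ker, pi_wE L.proj L.projU]; exact Th.base_one (by norm_num)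
    have h' := mul_mem (hc h1) (inv_mem (hc L.zc))
    rwa [hb, mul_inv_cancel_right] at h'
  set v := e * P * e * P⁻¹ with hvdef
  have e1 : P * e * P⁻¹ = e * v := by
    rw [hvdef, show e * (e * P * e * P⁻¹) = e * e * (P * e * P⁻¹) by group, he, one_mul]
  have e2 : (P * e * P⁻¹) ^ 2 = 1 := by
    calc (P * e * P⁻¹) ^ 2 = P * (e * e) * P⁻¹ := by rw [pow_two]; group
      _ = 1 := by rw [he]; group
  rwa [e1, cpow hv, pow_two e, he, one_mul] at e2

theorem kv_ker (L : Lifts π ι U z) : ∀ i, i < 16 → kvOf ι U z i ∈ π.ker := by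
  have hs : ∀ j, j < 6 → wE ι U (baseWords.getD j []) ∈ π.ker := fun j hj => by
    rw [MonoidHom.mem_ker, pi_wE L.proj L.projU]; exact Th.base_one hj
  intro i hi
  interval_cases i
  all_goals simp only [kvOf, List.getD_cons_zero, List.getD_cons_succ, crtA, crtB]
  all_goals first
    | exact pow_mem L.zc _
    | exact pow_mem (mul_mem (hs _ (by norm_num)) (inv_mem (pow_mem L.zc _))) _
    | exact pow_mem (hs _ (by norm_num)) _
    | exact mul_mem (hs _ (by norm_num)) (inv_mem (pow_mem L.zc _))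
    | exact mul_mem (hs _ (by norm_num)) (inv_mem L.zc)
    | exact om_ker L (by norm_num)

theorem eqs (L : Lifts π ι U z) (hc : π.ker ≤ Subgroup.center E) (hexp : ∀ x ∈ π.ker, x ^ 243000 = 1) :
    Eqs ι U (kvOf ι U z) := by
  have hs : ∀ j, j < 6 → wE ι U (baseWords.getD j []) ∈ π.ker := fun j hj => by
    rw [MonoidHom.mem_ker, pi_wE L.proj L.projU]; exact Th.base_one hj
  have hz := crt_spec (hexp _ L.zc)
  have h1 := crt_spec (hexp _ (mul_mem (hs 1 (by norm_num)) (inv_mem (pow_mem L.zc 3))))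
  have h4 := crt_spec (hexp _ (mul_mem (hs 4 (by norm_num)) (inv_mem (pow_mem L.zc 4))))
  have h5 := crt_spec (hexp _ (hs 5 (by norm_num)))
  refine ⟨fun i hi => hc (kv_ker L i hi), ?_, ?_, ?_, ?_⟩
  · intro i hi
    interval_cases i
    · exact hz.1
    · exact hz.2.1
    · exact h1.1
    · exact h1.2.1
    · exact h4.1
    · exact h4.2.1
    · exact h5.1
    · exact h5.2.1
    · exact v31_cube L hc
    · exact om_sq L hc 0 (by decide)
    · exact om_sq L hc 1 (by decide)
    · exact om_sq L hc 2 (by decide)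
    · exact om_sq L hc 4 (by decide)
    · exact om_sq L hc 5 (by decide)
    · exact om_sq L hc 6 (by decide)
    · exact v35_sq L hc
  · intro k hk
    have e : kp (kvOf ι U z) 16 (omE k) = if k = 3 then 1 else om ι U k := by
      interval_cases k <;> simp [kp, omE, kvOf]
    rw [e]
    split_ifs with h3
    · subst h3
      rw [mul_one]
      exact L.t
    · rw [om, mul_inv_cancel_left, ← mul_assoc, ← mul_assoc, mul_inv_cancel, one_mul]
  · rw [L.sq]
    congr 1
    simp [kp, zE, kvOf]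
    exact hz.2.2.symm
  · intro j hj
    have zz : ∀ n : Nat, crtA z ^ n * crtB z ^ n = z ^ n := fun n => by
      rw [← cpow (show crtB z ∈ Subgroup.center E from hc (pow_mem L.zc _)), hz.2.2]
    interval_cases j
    · simp only [kp, relE, List.getD_cons_zero, List.getD_cons_succ, List.getD_nil, kvOf, pow_zero, pow_one,
        one_mul, mul_one]
      rw [zz, ← Subgroup.mem_center_iff.1 (pow_mem (hc L.zc) 2), inv_mul_cancel_right]
    · simp only [kp, relE, List.getD_cons_zero, List.getD_cons_succ, List.getD_nil, kvOf, pow_zero, pow_one,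
        one_mul, mul_one]
      rw [zz, mul_assoc, h1.2.2, ← Subgroup.mem_center_iff.1 (pow_mem (hc L.zc) 3), inv_mul_cancel_right]
    · simp only [kp, relE, List.getD_cons_zero, List.getD_cons_succ, List.getD_nil, kvOf, pow_zero, pow_one,
        one_mul, mul_one]
      rw [hz.2.2, ← Subgroup.mem_center_iff.1 (hc L.zc), inv_mul_cancel_right]
    · simp only [kp, relE, List.getD_cons_zero, List.getD_cons_succ, List.getD_nil, kvOf, pow_zero, pow_one,
        one_mul, mul_one]
      rw [zz]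
      exact L.norm
    · simp only [kp, relE, List.getD_cons_zero, List.getD_cons_succ, List.getD_nil, kvOf, pow_zero, pow_one,
        one_mul, mul_one]
      rw [zz, mul_assoc, h4.2.2, ← Subgroup.mem_center_iff.1 (pow_mem (hc L.zc) 4), inv_mul_cancel_right]
    · simp only [kp, relE, List.getD_cons_zero, List.getD_cons_succ, List.getD_nil, kvOf, pow_zero, pow_one,
        one_mul, mul_one]
      exact h5.2.2.symm

/-- A relator without `u`, one of the six, or one of six explicit relators. -/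
theorem extra_split : ∀ k : Fin 39, (((Cfsg.Spor.Th.extra.getD k.val 1).toWord.all fun x => decide (x.1 ≠ Gen.u)) = true ∨
    k.val ∈ [27, 28, 29, 30, 32, 34] ∨ k.val ∈ Th.origIdx) ∧ k.val < Cfsg.Spor.Th.extra.length := by
  decide +kernel

theorem extra_len : Cfsg.Spor.Th.extra.length = 39 := by decide +kernel

theorem substU_eq (hi : U⁻¹ = U * (ι (ql [2]) * ι (ql [0]))) : ∀ l : List (Gen × Bool),
    wE ι U (substU l) = wE ι U l
  | [] => rfl
  | x :: l => by
    rw [show substU (x :: l) = _ ++ substU l from List.flatMap_cons, wE_append, substU_eq hi l, wE_cons]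
    congr 1
    split_ifs with h
    · subst h
      simp [wE, evE, gCode, hi]
    · simp [wE]

/-- Central extensions by elements of exponent dividing 243000 split. -/
theorem exists_splitting (π : E →* GTh) (hs : Function.Surjective π) (hc : π.ker ≤ Subgroup.center E)
    (hexp : ∀ x ∈ π.ker, x ^ 243000 = 1) (hinj : Function.Injective iota) :
    ∃ s : GTh →* E, π.comp s = MonoidHom.id _ := by
  obtain ⟨ι, U, z, L⟩ := exists_setup π hs hc
  have H := eqs L hc hexp
  have hι1 : ∀ q, π (ι q) = 1 → ι q = 1 := fun q hq => by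
    rw [← MonoidHom.comp_apply, L.proj] at hq
    rw [hinj (hq.trans (map_one iota).symm), map_one]
  have hk := kv_eq_one π hι1 (fun i hi => MonoidHom.mem_ker.1 (kv_ker L i hi)) H
  have hz : z = 1 := by
    rw [← (crt_spec (hexp _ L.zc)).2.2, show crtA z = 1 from hk 0 (by norm_num),
      show crtB z = 1 from hk 1 (by norm_num), one_mul]
  have hkp : ∀ e, kp (kvOf ι U z) 16 e = 1 := fun e => by
    rw [kp_congr _ 16 (e' := fun _ => 0) fun i hi => by rw [hk i hi, one_pow, one_pow], kp_zero]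
  have hi : U⁻¹ = U * (ι (ql [2]) * ι (ql [0])) := by
    rw [u_inv_eq L hc, hz, mul_one]
  have hconj : ∀ k, k < 7 → U * ι (ql [vLet.getD k 0]) = ι (ql [uLet.getD k 0]) * U := fun k hk => by
    have := H.conj k hk
    rwa [hkp, mul_one] at this
  have hsq : U * U = ι (ql [0, 2]) := by rw [L.sq, hz, mul_one]
  have hrels : ∀ r ∈ thRels, FreeGroup.lift (genE ι U) r = 1 := by
    rintro r (hr | hr)
    · exact absurd hr (by simp [Cfsg.Spor.coxRelators, Cfsg.Spor.Th.edges, Cfsg.Spor.coxNodes])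
    obtain ⟨k, hk', rfl⟩ := List.mem_iff_getElem.1 hr
    have hk39 : k < 39 := extra_len ▸ hk'
    rw [← List.getD_eq_getElem _ 1 hk']
    rcases (extra_split ⟨k, hk39⟩).1 with h | h | h
    · have hnu : ∀ x ∈ (Cfsg.Spor.Th.extra.getD k 1).toWord, x.1 ≠ Gen.u :=
        fun x hx => of_decide_eq_true (List.all_eq_true.1 h x hx)
      have h1 : π (wE ι U (Cfsg.Spor.Th.extra.getD k 1).toWord) = 1 := by
        rw [pi_wE L.proj L.projU, wG, FreeGroup.mk_toWord]
        exact Th.extra_one (List.getD_eq_getElem _ _ hk' ▸ List.getElem_mem hk')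
      rw [← FreeGroup.mk_toWord (x := Cfsg.Spor.Th.extra.getD k 1), ← wE_lift]
      rw [wE_ql ι U _ hnu] at h1 ⊢
      exact hι1 _ h1
    · have gq : ∀ g : Gen, g ≠ .u → genE ι U g = ι (ql [gCode (g, true)]) := fun g hg => if_neg hg
      have gu : genE ι U Gen.u = U := rfl
      simp only [List.mem_cons, List.not_mem_nil, or_false] at h
      have hc0 := hconj 1 (by norm_num)
      have hc1 := hconj 2 (by norm_num)
      have hc2 := hconj 0 (by norm_num)
      have hc6 := hconj 6 (by norm_num)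
      have hc3 := hconj 3 (by norm_num)
      simp only [uLet, vLet, List.getD_cons_zero, List.getD_cons_succ] at hc0 hc1 hc2 hc6 hc3
      rcases h with rfl | rfl | rfl | rfl | rfl | rfl
      · show FreeGroup.lift (genE ι U) ((Spor.Th.u ^ 2) * ((Spor.Th.a * Spor.Th.c)⁻¹)) = 1
        simp only [map_mul, map_pow, map_inv, FreeGroup.lift_apply_of, gu, gq _ (show Gen.a ≠ .u by decide),
          gq _ (show Gen.c ≠ .u by decide)]
        rw [pow_two, hsq, ← map_mul, ← ql_append]
        exact mul_inv_cancel _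
      · show FreeGroup.lift (genE ι U) (Spor.Th.u⁻¹ * Spor.Th.a⁻¹ * Spor.Th.u * Spor.Th.a) = 1
        simp only [map_mul, map_inv, FreeGroup.lift_apply_of, gu, gq _ (show Gen.a ≠ .u by decide)]
        rw [mul_assoc _ U, show U * ι (ql [gCode (Gen.a, true)]) = ι (ql [0]) * U from hc0]
        show U⁻¹ * (ι (ql [0]))⁻¹ * (ι (ql [0]) * U) = 1
        group
      · show FreeGroup.lift (genE ι U) (Spor.Th.u⁻¹ * Spor.Th.c⁻¹ * Spor.Th.u * Spor.Th.c) = 1
        simp only [map_mul, map_inv, FreeGroup.lift_apply_of, gu, gq _ (show Gen.c ≠ .u by decide)]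
        rw [mul_assoc _ U, show U * ι (ql [gCode (Gen.c, true)]) = ι (ql [2]) * U from hc1]
        show U⁻¹ * (ι (ql [2]))⁻¹ * (ι (ql [2]) * U) = 1
        group
      · show FreeGroup.lift (genE ι U) (Spor.Th.u⁻¹ * Spor.Th.e⁻¹ * Spor.Th.u * Spor.Th.e) = 1
        simp only [map_mul, map_inv, FreeGroup.lift_apply_of, gu, gq _ (show Gen.e ≠ .u by decide)]
        rw [mul_assoc _ U, show U * ι (ql [gCode (Gen.e, true)]) = ι (ql [4]) * U from hc2]
        show U⁻¹ * (ι (ql [4]))⁻¹ * (ι (ql [4]) * U) = 1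
        group
      · show FreeGroup.lift (genE ι U) ((Spor.Th.u⁻¹ * (Spor.Th.b⁻¹ * (Spor.Th.a * Spor.Th.c) * Spor.Th.b)⁻¹ *
          Spor.Th.u * (Spor.Th.b⁻¹ * (Spor.Th.a * Spor.Th.c) * Spor.Th.b)) * (Spor.Th.e⁻¹)) = 1
        simp only [map_mul, map_inv, FreeGroup.lift_apply_of, gu, gq _ (show Gen.a ≠ .u by decide),
          gq _ (show Gen.b ≠ .u by decide), gq _ (show Gen.c ≠ .u by decide), gq _ (show Gen.e ≠ .u by decide),
          show gCode (Gen.a, true) = 0 from rfl, show gCode (Gen.b, true) = 1 from rfl,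
          show gCode (Gen.c, true) = 2 from rfl, show gCode (Gen.e, true) = 4 from rfl]
        have hx : (ι (ql [1]))⁻¹ * (ι (ql [0]) * ι (ql [2])) * ι (ql [1]) = ι (ql [11]) := by
          rw [mul_assoc, inv_mul_eq_iff_eq_mul, ← map_mul, ← map_mul, ← map_mul, ← ql_append, ← ql_append,
            ← ql_append, ql_eq]
          decide +kernel
        have he : ι (ql [14]) = ι (ql [4]) * ι (ql [11]) := by
          rw [← map_mul, ← ql_append, ql_eq]
          decide +kernel
        have hx2 : (ι (ql [11]))⁻¹ = ι (ql [11]) := by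
          refine inv_eq_of_mul_eq_one_right ?_
          rw [← map_mul, ← ql_append, ql_eq (m := []) (by decide +kernel)]
          exact map_one ι
        rw [hx]
        have e : U⁻¹ * (ι (ql [11]))⁻¹ * U = ι (ql [4]) * ι (ql [11]) := by
          rw [hx2, mul_assoc, ← hc6, inv_mul_cancel_left, he]
        rw [e, mul_assoc (ι (ql [4])), show ι (ql [11]) * ι (ql [11]) = 1 by
          conv_lhs => arg 1; rw [← hx2]
          exact inv_mul_cancel _, mul_one, mul_inv_cancel]
      · show FreeGroup.lift (genE ι U) ((Spor.Th.u⁻¹ * Spor.Th.t * Spor.Th.u) * ((Spor.Th.t⁻¹)⁻¹)) = 1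
        simp only [map_mul, map_inv, FreeGroup.lift_apply_of, gu, gq _ (show Gen.t ≠ .u by decide), inv_inv,
          show gCode (Gen.t, true) = 6 from rfl]
        rw [mul_assoc U⁻¹, ← hc3, inv_mul_cancel_left, ← map_mul, ← ql_append, ql_eq (m := []) (by decide +kernel)]
        exact map_one ι
    · obtain ⟨j, hj, rfl⟩ := List.mem_iff_getElem.1 h
      have hj6 : j < 6 := by simpa [Th.origIdx] using hj
      obtain ⟨hb, -⟩ := Th.base_ok ⟨j, hj6⟩
      simp only at hb
      rw [← List.getD_eq_getElem _ 0 hj, ← FreeGroup.mk_toWord (x := Cfsg.Spor.Th.extra.getD _ 1), ← wE_lift,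
        ← substU_eq hi, wE_lift, ← FreeGroup.reduce.exact hb, ← wE_lift, H.rel j hj6, hkp]
  refine ⟨PresentedGroup.toGroup hrels, PresentedGroup.ext fun g => ?_⟩
  rw [MonoidHom.comp_apply, PresentedGroup.toGroup.of, MonoidHom.id_apply]
  have := pi_wE L.proj L.projU [(g, true)]
  rw [wE_cons, wE_nil, mul_one] at this
  exact this

/-- The multiplier is trivial once the order is known. -/
theorem multiplier (hbig : Th.Big) : Cfsg.HasCyclicSchurMultiplier GTh 1 := by
  have hfin : Finite GTh := Th.th_finite.1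
  obtain ⟨-, -, -, hinj⟩ := Th.exact_of_big hbig
  refine ProjExt.Stem.hasCyclicSchurMultiplier_one fun Γ _ _ σ hσ => ?_
  obtain ⟨hs, hc, hd⟩ := hσ
  obtain ⟨s, hsσ⟩ := exists_splitting σ hs hc (fun x hx => killed_th hbig Γ σ hs hc x hx (hd hx)) hinj
  have hid : ∀ y, σ (s y) = y := DFunLike.congr_fun hsσ
  have hcen : ∀ a : Γ, (s (σ a))⁻¹ * a ∈ Subgroup.center Γ := fun a =>
    hc (by rw [MonoidHom.mem_ker, map_mul, map_inv, hid, inv_mul_cancel])
  have hle : commutator Γ ≤ s.range := by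
    rw [commutator_def, Subgroup.commutator_le]
    intro a _ b _
    refine ⟨⁅σ a, σ b⁆, ?_⟩
    conv_rhs => rw [show a = s (σ a) * ((s (σ a))⁻¹ * a) by group, show b = s (σ b) * ((s (σ b))⁻¹ * b) by group]
    rw [StemCert.commutator_mul_central _ _ (hcen a) (hcen b), map_commutatorElement]
  rw [eq_bot_iff]
  intro x hx
  obtain ⟨y, rfl⟩ := hle (hd hx)
  rw [MonoidHom.mem_ker, hid] at hx
  rw [hx, map_one]
  exact one_mem _

end Cfsg.Agent.ThMult
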