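import Cfsg.Agent.ThMult.StepDefs

/-! Generated: steps are justified. -/

set_option Elab.async false
set_option maxRecDepth 100000

namespace Cfsg.Agent.ThMult

open Cfsg.Agent.DCoset Cfsg.Agent.CosetCert Cfsg.Agent.LyMult

theorem steps_5 : allFrom (Steps.check steps rules wtab) 250 50 = true := by decide +kernel

theorem steps_6 : allFrom (Steps.check steps rules wtab) 300 50 = true := by decide +kernel

theorem steps_7 : allFrom (Steps.check steps rules wtab) 350 50 = true := by decide +kernel

theorem steps_8 : allFrom (Steps.check steps rules wtab) 400 50 = true := by decide +kernel

theorem steps_9 : allFrom (Steps.check steps rules wtab) 450 50 = true := by decide +kernel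


end Cfsg.Agent.ThMult
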