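import Cfsg.Agent.ThMult.CheckSteps0
import Cfsg.Agent.ThMult.CheckSteps1
import Cfsg.Agent.ThMult.CheckSteps2
import Cfsg.Agent.ThMult.CheckSteps3

/-! Generated: steps are justified. -/

set_option Elab.async false
set_option maxRecDepth 100000

namespace Cfsg.Agent.ThMult

open Cfsg.Agent.DCoset Cfsg.Agent.CosetCert Cfsg.Agent.LyMult

theorem steps_ok : ∀ s, s < steps.len → Steps.check steps rules wtab s = true := by
  intro s hs
  change s < 996 at hs
  rcases Nat.lt_or_ge s 50 with h0 | h0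
  · exact (allFrom_iff _ _ _).1 steps_0 s (Nat.zero_le s) h0
  rcases Nat.lt_or_ge s 100 with h1 | h1
  · exact (allFrom_iff _ _ _).1 steps_1 s h0 h1
  rcases Nat.lt_or_ge s 150 with h2 | h2
  · exact (allFrom_iff _ _ _).1 steps_2 s h1 h2
  rcases Nat.lt_or_ge s 200 with h3 | h3
  · exact (allFrom_iff _ _ _).1 steps_3 s h2 h3
  rcases Nat.lt_or_ge s 250 with h4 | h4
  · exact (allFrom_iff _ _ _).1 steps_4 s h3 h4
  rcases Nat.lt_or_ge s 300 with h5 | h5
  · exact (allFrom_iff _ _ _).1 steps_5 s h4 h5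
  rcases Nat.lt_or_ge s 350 with h6 | h6
  · exact (allFrom_iff _ _ _).1 steps_6 s h5 h6
  rcases Nat.lt_or_ge s 400 with h7 | h7
  · exact (allFrom_iff _ _ _).1 steps_7 s h6 h7
  rcases Nat.lt_or_ge s 450 with h8 | h8
  · exact (allFrom_iff _ _ _).1 steps_8 s h7 h8
  rcases Nat.lt_or_ge s 500 with h9 | h9
  · exact (allFrom_iff _ _ _).1 steps_9 s h8 h9
  rcases Nat.lt_or_ge s 550 with h10 | h10
  · exact (allFrom_iff _ _ _).1 steps_10 s h9 h10
  rcases Nat.lt_or_ge s 600 with h11 | h11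
  · exact (allFrom_iff _ _ _).1 steps_11 s h10 h11
  rcases Nat.lt_or_ge s 650 with h12 | h12
  · exact (allFrom_iff _ _ _).1 steps_12 s h11 h12
  rcases Nat.lt_or_ge s 700 with h13 | h13
  · exact (allFrom_iff _ _ _).1 steps_13 s h12 h13
  rcases Nat.lt_or_ge s 750 with h14 | h14
  · exact (allFrom_iff _ _ _).1 steps_14 s h13 h14
  rcases Nat.lt_or_ge s 800 with h15 | h15
  · exact (allFrom_iff _ _ _).1 steps_15 s h14 h15
  rcases Nat.lt_or_ge s 850 with h16 | h16
  · exact (allFrom_iff _ _ _).1 steps_16 s h15 h16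
  rcases Nat.lt_or_ge s 900 with h17 | h17
  · exact (allFrom_iff _ _ _).1 steps_17 s h16 h17
  rcases Nat.lt_or_ge s 950 with h18 | h18
  · exact (allFrom_iff _ _ _).1 steps_18 s h17 h18
  exact (allFrom_iff _ _ _).1 steps_19 s h18 hs

end Cfsg.Agent.ThMult
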