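import Cfsg.Agent.CosetCert.ThChain2.Main
import Cfsg.Agent.CosetCert.ThChain3.Main

/-!
The two coset tables of the chain below `³D₄(2):3` as permutation representations with known
point stabilisers.
-/

set_option autoImplicit false
set_option Elab.async false
set_option maxRecDepth 100000

namespace Cfsg.Agent.ThMult

open Cfsg.Agent.CosetCert

/-- In a valid table a word fixing the base point lies in the subgroup. -/
theorem stab_le {β : Type*} [DecidableEq β] {D : Data} {rels : Set (FreeGroup β)}
    {Sg : List (FreeGroup β)} {enc : β → Nat} {dec : Nat → β × Bool} {RL : List (List (β × Bool))}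
    (h : D.Valid) (S : Data.Spells D rels Sg enc dec RL)
    (φ : PresentedGroup rels →* Equiv.Perm (Fin D.n))
    (π : Fin D.n ≃ PresentedGroup rels ⧸ Data.sub rels Sg)
    (hπ : ∀ g c, π (φ g c) = g • π c)
    (hfwd : ∀ (l : List (β × Bool)) (c : Fin D.n),
      (((φ (PresentedGroup.mk rels (FreeGroup.mk l)))⁻¹ c : Fin D.n) : Nat) =
        D.fwd (l.map (Data.code D.iv enc)) c)
    {g : PresentedGroup rels} (hg : φ g ⟨0, h.n_pos⟩ = ⟨0, h.n_pos⟩) : g ∈ Data.sub rels Sg := by
  let c0 : Fin D.n := ⟨0, h.n_pos⟩
  have hstab : ∀ g ∈ Data.sub rels Sg, φ g c0 = c0 := by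
    intro g hg
    obtain ⟨s, hs, rfl⟩ := Subgroup.mem_map.1 hg
    clear hg
    induction hs using Subgroup.closure_induction with
    | mem s hs =>
      have h1 := hfwd s.toWord c0
      rw [FreeGroup.mk_toWord] at h1
      have h2 : (s.toWord.map (Data.code D.iv enc)) ∈ D.W.drop D.nR :=
        S.drop_eq ▸ List.mem_map_of_mem hs
      rw [Nat.eq_of_beq_eq_true (List.all_eq_true.1 h.subs _ h2)] at h1
      exact (Equiv.Perm.inv_eq_iff_eq.1 (Fin.ext h1)).symm
    | one => simp
    | mul x y hx hy h1 h2 => simp [h1, h2]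
    | inv x hx h1 =>
      rw [map_inv, map_inv, Equiv.Perm.inv_eq_iff_eq]
      exact h1.symm
  let _ : MulAction (PresentedGroup rels) (Fin D.n) := MulAction.compHom _ φ
  have hle : Data.sub rels Sg ≤ MulAction.stabilizer (PresentedGroup rels) c0 := hstab
  have horb : MulAction.orbit (PresentedGroup rels) c0 = Set.univ := by
    refine Set.eq_univ_of_forall fun c => ?_
    obtain ⟨x, hx⟩ := QuotientGroup.mk_surjective (π c0)
    obtain ⟨y, hy⟩ := QuotientGroup.mk_surjective (π c)
    refine ⟨y * x⁻¹, π.injective ?_⟩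
    show π (φ _ c0) = π c
    rw [hπ, ← hx, ← hy]
    show ((y * x⁻¹ * x : PresentedGroup rels) : PresentedGroup rels ⧸ Data.sub rels Sg) = _
    rw [inv_mul_cancel_right]
  have h1 := Subgroup.relIndex_mul_index hle
  rw [MulAction.index_stabilizer, horb, Set.ncard_univ, Nat.card_fin, Data.index_eq h S] at h1
  exact Subgroup.relIndex_eq_one.1 ((Nat.mul_eq_right (Nat.pos_iff_ne_zero.1 h.n_pos)).1 h1) hg

theorem rels3_0 : allFrom ThChain3.data.checkRels 0 6048 = true := by decide +kernel

theorem rels3_1 : allFrom ThChain3.data.checkRels 6048 6048 = true := by decide +kernel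

theorem rels3_ok : ∀ c, c < 12096 → ThChain3.data.checkRels c = true := by
  intro c hc
  rcases Nat.lt_or_ge c 6048 with h | h
  · exact (allFrom_iff _ _ _).1 rels3_0 c (Nat.zero_le c) h
  · exact (allFrom_iff _ _ _).1 rels3_1 c h hc

theorem rels2_0 : allFrom ThChain2.data.checkRels 0 5824 = true := by decide +kernel

theorem rels2_1 : allFrom ThChain2.data.checkRels 5824 5824 = true := by decide +kernel

theorem rels2_2 : allFrom ThChain2.data.checkRels 11648 5824 = true := by decide +kernel

theorem rels2_ok : ∀ c, c < 17472 → ThChain2.data.checkRels c = true := by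
  intro c hc
  rcases Nat.lt_or_ge c 5824 with h | h
  · exact (allFrom_iff _ _ _).1 rels2_0 c (Nat.zero_le c) h
  rcases Nat.lt_or_ge c 11648 with h' | h'
  · exact (allFrom_iff _ _ _).1 rels2_1 c h h'
  · exact (allFrom_iff _ _ _).1 rels2_2 c h' hc

theorem valid3 : ThChain3.data.Valid where
  n_pos := ThChain3.log_valid.n_pos
  root := ThChain3.log_valid.root
  log := ThChain3.log_valid.log
  coset := ThChain3.log_valid.coset
  rels := rels3_ok
  powers_eq := by decide +kernel
  pw := ThChain3.log_valid.pw
  letters := ThChain3.log_valid.letters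
  K_small := ThChain3.log_valid.K_small
  nR_le := ThChain3.log_valid.nR_le
  subs := by decide +kernel
  iv_iv := ThChain3.log_valid.iv_iv
  iv_big := ThChain3.log_valid.iv_big

theorem valid2 : ThChain2.data.Valid where
  n_pos := ThChain2.log_valid.n_pos
  root := ThChain2.log_valid.root
  log := ThChain2.log_valid.log
  coset := ThChain2.log_valid.coset
  rels := rels2_ok
  powers_eq := by decide +kernel
  pw := ThChain2.log_valid.pw
  letters := ThChain2.log_valid.letters
  K_small := ThChain2.log_valid.K_small
  nR_le := ThChain2.log_valid.nR_le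
  subs := by decide +kernel
  iv_iv := ThChain2.log_valid.iv_iv
  iv_big := ThChain2.log_valid.iv_big

end Cfsg.Agent.ThMult
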