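import Cfsg.Agent.CocycleCert.Sound
import Cfsg.Agent.CocycleCert.ThOne.Checked
import Cfsg.Agent.CocycleCert.ThTwo.Checked
import Cfsg.Agent.StemCert.Split
import Cfsg.Agent.ThMult.Tables
import Cfsg.Agent.DCoset.Th.Model

/-!
Central extensions of `³D₄(2)`, presented by the first two families of relators, split.
-/

set_option autoImplicit false
set_option maxRecDepth 100000

namespace Cfsg.Agent.ThMult

open Cfsg.Agent.CosetCert
open scoped commutatorElement
open Cfsg.Agent.CocycleCert (evalS evalS_nil evalS_cons map_evalS exists_lifts)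

/-- The group on `a b c d e`. -/
abbrev P1 : Type := PresentedGroup (wordRels ThChain3.relWords)

/-- The group on `a b c d e s`. -/
abbrev P2 : Type := PresentedGroup (wordRels ThChain2.relWords)

/-- The group on `a b c d e s t`. -/
abbrev P3 : Type := DCoset.Th.HGroup

theorem evalS_subst {β : Type*} {R : Set (FreeGroup β)} (g : ℕ → PresentedGroup R)
    (sub : ℕ × Bool → List (β × Bool)) (w : List (ℕ × Bool))
    (h : ∀ a ∈ w, cond a.2 (g a.1) (g a.1)⁻¹ = PresentedGroup.mk R (FreeGroup.mk (sub a))) :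
    evalS g w = PresentedGroup.mk R (FreeGroup.mk (w.flatMap sub)) := by
  induction w with
  | nil => rw [evalS_nil, List.flatMap_nil, ← FreeGroup.one_eq_mk, map_one]
  | cons a w ih =>
    rw [evalS_cons, List.flatMap_cons, h a List.mem_cons_self,
      ih fun b hb => h b (List.mem_cons_of_mem _ hb), ← map_mul, FreeGroup.mul_mk]

theorem mk_one_of {β : Type*} [DecidableEq β] {RL : List (List (β × Bool))} {w : List (β × Bool)}
    (h : w ∈ RL ∨ FreeGroup.reduce w = []) :
    PresentedGroup.mk (wordRels RL) (FreeGroup.mk w) = 1 := by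
  rcases h with h | h
  · exact PresentedGroup.one_of_mem (List.mem_map_of_mem h)
  · rw [FreeGroup.reduce.exact (h.trans (FreeGroup.reduce_nil).symm), ← FreeGroup.one_eq_mk, map_one]

/-- A letter of the first certificate in the five generators. -/
def sub1 (a : ℕ × Bool) : List (Fin 5 × Bool) := if a.1 < 5 then [(Fin.ofNat 5 a.1, a.2)] else []

/-- The generators of the first certificate. -/
def g1 (x : ℕ) : P1 := if x < 5 then PresentedGroup.of (Fin.ofNat 5 x) else 1

theorem g1_sub (a : ℕ × Bool) :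
    cond a.2 (g1 a.1) (g1 a.1)⁻¹ = PresentedGroup.mk _ (FreeGroup.mk (sub1 a)) := by
  obtain ⟨x, b⟩ := a
  unfold g1 sub1
  split_ifs <;> cases b <;>
    simp only [cond_true, cond_false, inv_one, ← FreeGroup.one_eq_mk, map_one, PresentedGroup.of,
      ← map_inv] <;> rfl

theorem g1_sq {x : ℕ} (hx : x < 6) : (g1 x)⁻¹ = g1 x := by
  refine inv_eq_of_mul_eq_one_right ?_
  unfold g1
  split_ifs with h
  · rw [PresentedGroup.of, ← map_mul]
    exact mk_one_of (w := [(Fin.ofNat 5 x, true), (Fin.ofNat 5 x, true)])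
      (Or.inl (by interval_cases x <;> decide +kernel))
  · exact one_mul 1

theorem rels1_sub : ∀ w ∈ CocycleCert.ThOne.cert.rels,
    w.flatMap sub1 ∈ ThChain3.relWords ∨ FreeGroup.reduce (w.flatMap sub1) = [] := by
  decide +kernel

/-- `P1` with a central square root of the abelianisation adjoined. -/
abbrev E1 : Type := PresentedGroup (wordRels (CocycleCert.ThOne.cert.rels.map
  (List.map fun a => ((Fin.ofNat 6 a.1 : Fin 6), a.2))))

theorem lt6 : ∀ w ∈ CocycleCert.ThOne.cert.rels, ∀ a ∈ w, a.1 < 6 := by decide +kernel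

theorem e1_one {w : List (ℕ × Bool)} (hw : w ∈ CocycleCert.ThOne.cert.rels) :
    evalS (fun x => (PresentedGroup.of (Fin.ofNat 6 x) : E1)) w = 1 := by
  rw [evalS_subst _ (fun a => [((Fin.ofNat 6 a.1 : Fin 6), a.2)]) w fun a _ => by
    obtain ⟨x, b⟩ := a
    cases b <;> simp only [cond_true, cond_false, PresentedGroup.of, ← map_inv] <;> rfl]
  refine mk_one_of (Or.inl ?_)
  rw [← List.map_eq_flatMap]
  exact List.mem_map_of_mem hw

/-- The central generator. -/
def z1 : E1 := PresentedGroup.of 5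

theorem comm_words : ∀ x : Fin 5,
    [(x.val, false), (5, false), (x.val, true), (5, true)] ∈ CocycleCert.ThOne.cert.rels := by
  decide +kernel

theorem z1_central : z1 ∈ Subgroup.center E1 := by
  rw [Subgroup.mem_center_iff]
  intro y
  have hy : y ∈ Subgroup.centralizer {z1} := by
    refine (?_ : (⊤ : Subgroup E1) ≤ _) (Subgroup.mem_top y)
    rw [← PresentedGroup.closure_range_of, Subgroup.closure_le]
    rintro _ ⟨i, rfl⟩
    rw [SetLike.mem_coe, Subgroup.mem_centralizer_singleton_iff]
    by_cases hi : i.val < 5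
    · have h := e1_one (comm_words ⟨i.val, hi⟩)
      simp only [evalS_cons, evalS_nil, cond_true, cond_false, mul_one] at h
      rw [show (Fin.ofNat 6 i.val : Fin 6) = i from Fin.ext (by simp), show (Fin.ofNat 6 5 : Fin 6) = 5 from rfl] at h
      change (PresentedGroup.of i)⁻¹ * (z1⁻¹ * (PresentedGroup.of i * z1)) = 1 at h
      rw [← mul_assoc, ← mul_inv_rev, inv_mul_eq_one] at h
      exact h.symm
    · rw [show i = 5 from Fin.ext (by have := i.isLt; show i.val = 5; omega)]
      rfl
  exact Subgroup.mem_centralizer_singleton_iff.1 hy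

/-- The exponent sums of `d`, `e` and twice the central generator. -/
def chiGen (i : Fin 6) : Multiplicative ℤ :=
  Multiplicative.ofAdd ([0, 0, 0, 1, 1, 2].getD i.val 0)

theorem chi_rels : ∀ w ∈ CocycleCert.ThOne.cert.rels,
    ((w.map fun a => ((Fin.ofNat 6 a.1 : Fin 6), a.2)).map fun a =>
      cond a.2 (chiGen a.1) (chiGen a.1)⁻¹).prod = 1 := by
  decide +kernel

/-- The abelianisation. -/
def chi : E1 →* Multiplicative ℤ := PresentedGroup.toGroup (f := chiGen) (by
  intro r hr
  obtain ⟨v, hv, rfl⟩ := List.mem_map.1 hr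
  obtain ⟨w, hw, rfl⟩ := List.mem_map.1 hv
  rw [FreeGroup.lift_mk]
  exact chi_rels w hw)

theorem proj1_rels : ∀ r ∈ wordRels (CocycleCert.ThOne.cert.rels.map
    (List.map fun a => ((Fin.ofNat 6 a.1 : Fin 6), a.2))),
    FreeGroup.lift (fun i : Fin 6 => g1 i.val) r = 1 := by
  intro r hr
  obtain ⟨v, hv, rfl⟩ := List.mem_map.1 hr
  obtain ⟨w, hw, rfl⟩ := List.mem_map.1 hv
  rw [FreeGroup.lift_mk, List.map_map]
  refine Eq.trans ?_ ((evalS_subst g1 sub1 w fun a _ => g1_sub a).trans (mk_one_of (rels1_sub w hw)))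
  rw [evalS]
  congr 1
  refine List.map_congr_left fun a ha => ?_
  simp [Nat.mod_eq_of_lt (lt6 w hw a ha)]

/-- The projection. -/
def proj1 : E1 →* P1 := PresentedGroup.toGroup proj1_rels

theorem rels1_cover : ∀ l ∈ ThChain3.relWords,
    ∃ w ∈ CocycleCert.ThOne.cert.rels, w.flatMap sub1 = l := by
  decide +kernel

theorem ker_proj1 : proj1.ker ≤ Subgroup.zpowers z1 := by
  have hn : (Subgroup.zpowers z1).Normal :=
    ⟨fun x hx y => by
      rw [Subgroup.mem_center_iff.1 ((Subgroup.zpowers_le.2 z1_central) hx) y, mul_inv_cancel_right]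
      exact hx⟩
  let q := QuotientGroup.mk' (Subgroup.zpowers z1)
  have hz : q z1 = 1 := (QuotientGroup.eq_one_iff _).2 (Subgroup.mem_zpowers z1)
  let f : Fin 5 → E1 ⧸ Subgroup.zpowers z1 := fun i => q (PresentedGroup.of i.castSucc)
  have hr : ∀ r ∈ wordRels ThChain3.relWords, FreeGroup.lift f r = 1 := by
    intro r hr
    obtain ⟨l, hl, rfl⟩ := List.mem_map.1 hr
    obtain ⟨w, hw, rfl⟩ := rels1_cover l hl
    have h6 := lt6 w hw
    have key : ∀ v : List (ℕ × Bool), (∀ a ∈ v, a.1 < 6) → FreeGroup.lift f (FreeGroup.mk (v.flatMap sub1)) =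
        q (evalS (fun x => (PresentedGroup.of (Fin.ofNat 6 x) : E1)) v) := by
      intro v
      induction v with
      | nil => intro _; simp [evalS_nil, ← FreeGroup.one_eq_mk]
      | cons a v ih =>
        intro hv
        have ha := hv a List.mem_cons_self
        rw [List.flatMap_cons, ← FreeGroup.mul_mk, map_mul, ih fun b hb => hv b (List.mem_cons_of_mem _ hb),
          evalS_cons, map_mul]
        congr 1
        obtain ⟨x, b⟩ := a
        by_cases h5 : x < 5
        · have e : (Fin.ofNat 5 x).castSucc = (Fin.ofNat 6 x : Fin 6) :=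
            Fin.ext (by simp [Nat.mod_eq_of_lt h5, Nat.mod_eq_of_lt ha])
          cases b <;> simp [sub1, h5, FreeGroup.lift_mk, f, -Fin.ofNat_eq_cast, e]
        · obtain rfl : x = 5 := by simp only at ha; omega
          cases b <;> simp [sub1, ← FreeGroup.one_eq_mk, show q (PresentedGroup.of 5) = 1 from hz]
    rw [key w h6, e1_one hw, map_one]
  have hid : (PresentedGroup.toGroup hr).comp proj1 = q := PresentedGroup.ext fun i => by
    simp only [MonoidHom.comp_apply, proj1, PresentedGroup.toGroup.of, g1]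
    split_ifs with h
    · rw [PresentedGroup.toGroup.of]
      simp only [f]
      congr 2
      exact Fin.ext (by simp [Nat.mod_eq_of_lt h])
    · rw [map_one, show i = 5 from Fin.ext (by have := i.isLt; show i.val = 5; omega)]
      exact hz.symm
  intro x hx
  have h := DFunLike.congr_fun hid x
  rw [MonoidHom.comp_apply, MonoidHom.mem_ker.1 hx, map_one] at h
  exact (QuotientGroup.eq_one_iff _).1 h.symm

theorem proj1_eq_one {y : E1} (hy : y ∈ commutator E1) (h1 : proj1 y = 1) : y = 1 := by
  obtain ⟨n, rfl⟩ := Subgroup.mem_zpowers_iff.1 (ker_proj1 (MonoidHom.mem_ker.2 h1))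
  have h := Abelianization.commutator_subset_ker chi hy
  rw [MonoidHom.mem_ker, map_zpow, z1, chi, PresentedGroup.toGroup.of] at h
  have h2 := congrArg Multiplicative.toAdd h
  simp [chiGen] at h2
  rw [show n = 0 by omega, zpow_zero]

/-- The pullback of a map to a group. -/
def pull {Γ G P : Type*} [Group Γ] [Group G] [Group P] (σ : Γ →* G) (φ : P →* G) : Subgroup (Γ × P) :=
  (σ.comp (MonoidHom.fst Γ P)).eqLocus (φ.comp (MonoidHom.snd Γ P))

theorem pull_ext {Γ G P : Type*} [Group Γ] [Group G] [Group P] (σ : Γ →* G) (φ : P →* G)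
    (hs : Function.Surjective σ) (hc : σ.ker ≤ Subgroup.center Γ) :
    Function.Surjective ((MonoidHom.snd Γ P).comp (pull σ φ).subtype) ∧
      ((MonoidHom.snd Γ P).comp (pull σ φ).subtype).ker ≤ Subgroup.center (pull σ φ) := by
  refine ⟨fun p => ?_, fun x hx => ?_⟩
  · obtain ⟨γ, hγ⟩ := hs (φ p)
    exact ⟨⟨(γ, p), hγ⟩, rfl⟩
  · have h2 : x.1.2 = 1 := hx
    have h1 : σ x.1.1 = 1 := by
      have := x.2
      change σ x.1.1 = φ x.1.2 at this
      rw [this, h2, map_one]
    refine Subgroup.mem_center_iff.2 fun y => Subtype.ext (Prod.ext ?_ ?_)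
    · exact Subgroup.mem_center_iff.1 (hc (MonoidHom.mem_ker.2 h1)) y.1.1
    · show y.1.2 * x.1.2 = x.1.2 * y.1.2
      rw [h2, mul_one, one_mul]

/-- Lifts of `P1` up to the central square root. -/
theorem exists_lift1 {Γ G : Type} [Group Γ] [Group G] (σ : Γ →* G) (hs : Function.Surjective σ)
    (hc : σ.ker ≤ Subgroup.center Γ) (φ : P1 →* G) :
    ∃ F : E1 →* Γ, σ.comp F = φ.comp proj1 := by
  obtain ⟨ψ, π, hπ, hfwd⟩ := Data.enumeration valid3 ThChain3.spells
  obtain ⟨hs', hc'⟩ := pull_ext σ φ hs hc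
  let τ := (MonoidHom.snd Γ P1).comp (pull σ φ).subtype
  have hT : ∀ x < CocycleCert.ThOne.cert.K, ∀ c : Fin 12096,
      (((ψ (g1 x))⁻¹ c : Fin 12096) : ℕ) = CocycleCert.ThOne.tab c x := by
    intro x hx c
    change x < 6 at hx
    unfold g1
    split_ifs with h
    · refine (hfwd [(Fin.ofNat 5 x, true)] c).trans ?_
      rw [List.map_cons, List.map_nil, Data.fwd_cons, Data.fwd_nil, CocycleCert.ThOne.tab,
        show Nat.blt x 5 = true from Nat.ble_eq_true_of_le (by omega)]
      show _ = ThChain3.data.T c x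
      refine congrArg _ ?_
      interval_cases x <;> decide +kernel
    · obtain rfl : x = 5 := by omega
      rw [map_one, inv_one]
      rfl
  let S : Subgroup P1 := Data.sub (wordRels ThChain3.relWords) (ThChain3.subLetters.map FreeGroup.of)
  have hS0 : S = ⊥ := by
    simp [S, Data.sub, ThChain3.subLetters]
  have hcomm : commutator (S.comap τ) = ⊥ := by
    rw [commutator_def, Subgroup.commutator_eq_bot_iff_le_centralizer]
    intro x _
    rw [Subgroup.mem_centralizer_iff]
    intro y _
    have hx : x.1 ∈ τ.ker := MonoidHom.mem_ker.2 (Subgroup.mem_bot.1 (hS0.le x.2))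
    exact Subtype.ext (Subgroup.mem_center_iff.1 (hc' hx) y.1)
  obtain ⟨l, hl, hrel⟩ := exists_lifts (C := CocycleCert.ThOne.cert) CocycleCert.ThOne.checked τ hs' hc'
    ψ g1 hT
    (fun x hx c => by
      have h := hT x hx c
      rw [← map_inv, g1_sq hx] at h
      exact h)
    (fun w hw => (evalS_subst g1 sub1 w fun a _ => g1_sub a).trans (mk_one_of (rels1_sub w hw)))
    S (fun y hy => stab_le valid3 ThChain3.spells ψ π hπ hfwd hy)
    Abelianization.of fun z hz _ h1 => by
      rw [← MonoidHom.mem_ker, Abelianization.ker_of, hcomm, Subgroup.mem_bot] at h1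
      exact congrArg Subtype.val h1
  have hr : ∀ r ∈ wordRels (CocycleCert.ThOne.cert.rels.map
      (List.map fun a => ((Fin.ofNat 6 a.1 : Fin 6), a.2))), FreeGroup.lift (fun i : Fin 6 => l i.val) r = 1 := by
    intro r hr
    obtain ⟨v, hv, rfl⟩ := List.mem_map.1 hr
    obtain ⟨w, hw, rfl⟩ := List.mem_map.1 hv
    refine Eq.trans ?_ (hrel w hw)
    rw [FreeGroup.lift_mk, List.map_map, evalS]
    congr 1
    refine List.map_congr_left fun a ha => ?_
    simp [Nat.mod_eq_of_lt (lt6 w hw a ha)]
  refine ⟨((MonoidHom.fst Γ P1).comp (pull σ φ).subtype).comp (PresentedGroup.toGroup hr),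
    PresentedGroup.ext fun i => ?_⟩
  simp only [MonoidHom.comp_apply, PresentedGroup.toGroup.of, proj1]
  have h := (l i.val).2
  change σ (l i.val).1.1 = φ (l i.val).1.2 at h
  rw [← hl i.val]
  exact h

/-- The kernel meets the derived group of the preimage of `P1` trivially. -/
theorem meet1 {Γ G : Type} [Group Γ] [Group G] (σ : Γ →* G) (hs : Function.Surjective σ)
    (hc : σ.ker ≤ Subgroup.center Γ) (φ : P1 →* G) (hφ : Function.Injective φ) (S : Subgroup G)
    (hS : S ≤ φ.range) (z : Γ) (hz : z ∈ S.comap σ) (hzk : z ∈ σ.ker)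
    (h1 : Abelianization.of (⟨z, hz⟩ : S.comap σ) = 1) : z = 1 := by
  obtain ⟨F, hF⟩ := exists_lift1 σ hs hc φ
  rw [← MonoidHom.mem_ker, Abelianization.ker_of] at h1
  have hmem : z ∈ (commutator (S.comap σ)).map (S.comap σ).subtype := ⟨_, h1, rfl⟩
  have hle : (commutator (S.comap σ)).map (S.comap σ).subtype ≤ (commutator E1).map F := by
    rw [commutator_def, Subgroup.map_commutator, Subgroup.commutator_le]
    rintro _ ⟨p, -, rfl⟩ _ ⟨q, -, rfl⟩
    have key : ∀ p : S.comap σ, ∃ y, (F y)⁻¹ * p.1 ∈ Subgroup.center Γ := fun p => by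
      obtain ⟨w, hw⟩ := hS p.2
      obtain ⟨y, rfl⟩ : ∃ y, proj1 y = w := by
        refine (?_ : Function.Surjective proj1) w
        rw [← MonoidHom.range_eq_top, eq_top_iff, ← PresentedGroup.closure_range_of, Subgroup.closure_le]
        rintro _ ⟨i, rfl⟩
        refine ⟨PresentedGroup.of i.castSucc, ?_⟩
        simp [proj1, g1]
      refine ⟨y, hc (MonoidHom.mem_ker.2 ?_)⟩
      rw [map_mul, map_inv, ← MonoidHom.comp_apply, hF, MonoidHom.comp_apply, hw]
      exact inv_mul_cancel _
    obtain ⟨a, ha⟩ := key p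
    obtain ⟨b, hb⟩ := key q
    refine ⟨⁅a, b⁆, Subgroup.commutator_mem_commutator (Subgroup.mem_top _) (Subgroup.mem_top _), ?_⟩
    rw [map_commutatorElement]
    conv_rhs => rw [show (S.comap σ).subtype p = F a * ((F a)⁻¹ * p.1) by simp,
      show (S.comap σ).subtype q = F b * ((F b)⁻¹ * q.1) by simp]
    rw [StemCert.commutator_mul_central _ _ ha hb]
  obtain ⟨y, hy, rfl⟩ := hle hmem
  rw [MonoidHom.mem_ker, ← MonoidHom.comp_apply, hF, MonoidHom.comp_apply] at hzk
  rw [proj1_eq_one hy (hφ (hzk.trans (map_one φ).symm)), map_one]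

theorem exists_incl : ∃ φ : P1 →* P2, ∃ ψ : P2 →* P3,
    (∀ i, φ (PresentedGroup.of i) = PresentedGroup.of i.castSucc) ∧
      (∀ i, ψ (PresentedGroup.of i) = PresentedGroup.of i.castSucc) ∧
        Function.Injective φ ∧ Function.Injective ψ := by
  obtain ⟨φ, hφ⟩ := exists_rename (rels := wordRels ThChain2.relWords) ThChain3.relWords Fin.castSucc
    fun l hl => PresentedGroup.one_of_mem (List.mem_map_of_mem
      ((show ∀ l ∈ ThChain3.relWords, (l.map fun a => ((Fin.castSucc a.1 : Fin 6), a.2)) ∈ ThChain2.relWords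
        from by decide +kernel) l hl))
  obtain ⟨ψ, hψ⟩ := exists_rename (rels := wordRels DCoset.Th.HRels) ThChain2.relWords Fin.castSucc
    fun l hl => PresentedGroup.one_of_mem (List.mem_map_of_mem (DCoset.Th.sub_rels₂ l hl))
  have hφ' : ∀ i, φ (PresentedGroup.of i) = PresentedGroup.of i.castSucc := fun i => by
    rw [PresentedGroup.of, hφ, FreeGroup.map.of]; rfl
  have hψ' : ∀ i, ψ (PresentedGroup.of i) = PresentedGroup.of i.castSucc := fun i => by
    rw [PresentedGroup.of, hψ, FreeGroup.map.of]; rfl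
  obtain ⟨-, c1⟩ := card_le_top ([] : List (Fin 5)) rfl ThChain3.index_bound (letterSub_nil_card _)
  have f1 : Finite P1 := (card_le_top ([] : List (Fin 5)) rfl ThChain3.index_bound (letterSub_nil_card _)).1
  have f3 : Finite P3 := DCoset.Th.hgroup_card.1
  have hr1 : Nat.card φ.range ≤ 12096 :=
    (Nat.card_le_card_of_surjective _ φ.rangeRestrict_surjective).trans (c1.trans (by norm_num))
  have hfr : Finite φ.range := Finite.of_surjective _ φ.rangeRestrict_surjective
  have hsub : letterSub (wordRels ThChain2.relWords) ((List.finRange 5).map Fin.castSucc) ≤ φ.range := by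
    rw [letterSub, Subgroup.closure_le]
    rintro _ ⟨b, hb, rfl⟩
    obtain ⟨i, -, rfl⟩ := List.mem_map.1 hb
    exact ⟨_, hφ' i⟩
  obtain ⟨f2, c2⟩ := card_le_top ((List.finRange 5).map (Fin.castSucc : Fin 5 → Fin 6))
    (by decide +kernel) ThChain2.index_bound
    ⟨Finite.of_injective _ (Subgroup.inclusion_injective hsub),
      (Nat.card_le_card_of_injective _ (Subgroup.inclusion_injective hsub))⟩
  have hsub' : letterSub (wordRels DCoset.Th.HRels) ((List.finRange 6).map Fin.castSucc) ≤ ψ.range := by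
    rw [letterSub, Subgroup.closure_le]
    rintro _ ⟨b, hb, rfl⟩
    obtain ⟨i, -, rfl⟩ := List.mem_map.1 hb
    exact ⟨_, hψ' i⟩
  have hfr2 : Finite ψ.range := Finite.of_surjective _ ψ.rangeRestrict_surjective
  obtain ⟨-, c3⟩ := card_le_top ((List.finRange 6).map (Fin.castSucc : Fin 6 → Fin 7))
    (by decide +kernel) ThChain1.index_bound
    ⟨Finite.of_injective _ (Subgroup.inclusion_injective hsub'),
      (Nat.card_le_card_of_injective _ (Subgroup.inclusion_injective hsub'))⟩
  rw [DCoset.Th.hgroup_card_eq] at c3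
  have hψr : Nat.card ψ.range ≤ Nat.card P2 := Nat.card_le_card_of_surjective _ ψ.rangeRestrict_surjective
  have hφr : Nat.card φ.range ≤ Nat.card P1 := Nat.card_le_card_of_surjective _ φ.rangeRestrict_surjective
  have c1' : Nat.card P1 ≤ 12096 := c1.trans (le_of_eq (by norm_num))
  have c2' : Nat.card P2 ≤ 17472 * Nat.card φ.range := c2
  have c3' : 634023936 ≤ 3 * Nat.card ψ.range := c3
  have i1 : Nat.card P1 ≤ Nat.card φ.range := by omega
  have i2 : Nat.card P2 ≤ Nat.card ψ.range := by omega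
  refine ⟨φ, ψ, hφ', hψ', fun x y h => ?_, fun x y h => ?_⟩
  · exact ((Nat.bijective_iff_surjective_and_card φ.rangeRestrict).2
      ⟨φ.rangeRestrict_surjective, le_antisymm i1 hφr⟩).1 (Subtype.ext h)
  · exact ((Nat.bijective_iff_surjective_and_card ψ.rangeRestrict).2
      ⟨ψ.rangeRestrict_surjective, le_antisymm i2 hψr⟩).1 (Subtype.ext h)

/-- A letter of the second certificate in the six generators. -/
def sub2 (a : ℕ × Bool) : List (Fin 6 × Bool) :=
  if a.1 < 6 then [(Fin.ofNat 6 a.1, a.2)] else [(5, !a.2)]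

/-- The generators of the second certificate. -/
def g2 (x : ℕ) : P2 := if x < 6 then PresentedGroup.of (Fin.ofNat 6 x) else (PresentedGroup.of 5)⁻¹

theorem g2_sub (a : ℕ × Bool) :
    cond a.2 (g2 a.1) (g2 a.1)⁻¹ = PresentedGroup.mk _ (FreeGroup.mk (sub2 a)) := by
  obtain ⟨x, b⟩ := a
  unfold g2 sub2
  split_ifs <;> cases b <;>
    simp only [cond_true, cond_false, inv_inv, PresentedGroup.of, ← map_inv, Bool.not_true, Bool.not_false] <;>
    rfl

theorem rels2_sub : ∀ w ∈ CocycleCert.ThTwo.cert.rels,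
    w.flatMap sub2 ∈ ThChain2.relWords ∨ FreeGroup.reduce (w.flatMap sub2) = [] := by
  decide +kernel

theorem rels2_cover : ∀ l ∈ ThChain2.relWords,
    (l.map fun a => (a.1.val, a.2)) ∈ CocycleCert.ThTwo.cert.rels := by
  decide +kernel

/-- Central extensions split over `P2`. -/
theorem exists_lift2 {Γ G : Type} [Group Γ] [Group G] (σ : Γ →* G) (hs : Function.Surjective σ)
    (hc : σ.ker ≤ Subgroup.center Γ) (ψ : P2 →* G) : ∃ j : P2 →* Γ, σ.comp j = ψ := by
  obtain ⟨φ, -, hφ, -, hinj, -⟩ := exists_incl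
  obtain ⟨act, π, hπ, hfwd⟩ := Data.enumeration valid2 ThChain2.spells
  obtain ⟨hs', hc'⟩ := pull_ext σ ψ hs hc
  let τ := (MonoidHom.snd Γ P2).comp (pull σ ψ).subtype
  let S : Subgroup P2 := Data.sub (wordRels ThChain2.relWords) (ThChain2.subLetters.map FreeGroup.of)
  have hS : S ≤ φ.range := by
    show (Subgroup.closure _).map _ ≤ _
    rw [MonoidHom.map_closure, Subgroup.closure_le]
    rintro _ ⟨w, hw, rfl⟩
    obtain ⟨b, hb, rfl⟩ := List.mem_map.1 hw
    have hb5 : b.val < 5 := by
      revert b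
      decide +kernel
    exact ⟨PresentedGroup.of ⟨b.val, hb5⟩, (hφ _).trans rfl⟩
  have hT : ∀ x < CocycleCert.ThTwo.cert.K, ∀ c : Fin 17472,
      (((act (g2 x))⁻¹ c : Fin 17472) : ℕ) = CocycleCert.ThTwo.tab c x ∧
      ((act (g2 x) c : Fin 17472) : ℕ) = CocycleCert.ThTwo.btab c x := by
    intro x hx c
    change x < 7 at hx
    unfold g2
    split_ifs with h
    · refine ⟨(hfwd [(Fin.ofNat 6 x, true)] c).trans ?_, ?_⟩
      · rw [List.map_cons, List.map_nil, Data.fwd_cons, Data.fwd_nil, CocycleCert.ThTwo.tab]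
        refine congrArg _ ?_
        interval_cases x <;> decide +kernel
      · have e := hfwd [(Fin.ofNat 6 x, false)] c
        rw [show PresentedGroup.mk (wordRels ThChain2.relWords) (FreeGroup.mk [(Fin.ofNat 6 x, false)]) =
          (PresentedGroup.of (Fin.ofNat 6 x))⁻¹ by rw [PresentedGroup.of, ← map_inv]; rfl,
          map_inv, inv_inv] at e
        refine e.trans ?_
        rw [List.map_cons, List.map_nil, Data.fwd_cons, Data.fwd_nil, CocycleCert.ThTwo.btab]
        refine congrArg _ ?_
        interval_cases x <;> decide +kernel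
    · obtain rfl : x = 6 := by omega
      refine ⟨?_, ?_⟩
      · have e := hfwd [((5 : Fin 6), false)] c
        rw [show PresentedGroup.mk (wordRels ThChain2.relWords) (FreeGroup.mk [((5 : Fin 6), false)]) =
          (PresentedGroup.of (5 : Fin 6))⁻¹ by rw [PresentedGroup.of, ← map_inv]; rfl] at e
        refine e.trans ?_
        rw [List.map_cons, List.map_nil, Data.fwd_cons, Data.fwd_nil, CocycleCert.ThTwo.tab]
        refine congrArg _ ?_
        decide +kernel
      · rw [map_inv]
        refine (hfwd [((5 : Fin 6), true)] c).trans ?_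
        rw [List.map_cons, List.map_nil, Data.fwd_cons, Data.fwd_nil, CocycleCert.ThTwo.btab]
        refine congrArg _ ?_
        decide +kernel
  obtain ⟨l, hl, hrel⟩ := exists_lifts (C := CocycleCert.ThTwo.cert) CocycleCert.ThTwo.checked τ hs' hc'
    act g2 (fun x hx c => (hT x hx c).1) (fun x hx c => (hT x hx c).2)
    (fun w hw => (evalS_subst g2 sub2 w fun a _ => g2_sub a).trans (mk_one_of (rels2_sub w hw)))
    S (fun y hy => stab_le valid2 ThChain2.spells act π hπ hfwd hy)
    Abelianization.of (meet1 τ hs' hc' φ hinj S hS)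
  have hr : ∀ r ∈ wordRels ThChain2.relWords, FreeGroup.lift (fun i : Fin 6 => l i.val) r = 1 := by
    intro r hr
    obtain ⟨w, hw, rfl⟩ := List.mem_map.1 hr
    refine Eq.trans ?_ (hrel _ (rels2_cover w hw))
    rw [FreeGroup.lift_mk, evalS, List.map_map]
    rfl
  refine ⟨((MonoidHom.fst Γ P2).comp (pull σ ψ).subtype).comp (PresentedGroup.toGroup hr),
    PresentedGroup.ext fun i => ?_⟩
  simp only [MonoidHom.comp_apply, PresentedGroup.toGroup.of]
  have h := (l i.val).2
  change σ (l i.val).1.1 = ψ (l i.val).1.2 at h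
  rw [show (l i.val).1.2 = g2 i.val from hl i.val, g2, if_pos i.isLt] at h
  rw [show Fin.ofNat 6 i.val = i from Fin.ext (by simp)] at h
  exact h

end Cfsg.Agent.ThMult
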