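import Cfsg.Agent.ThMult.Table

/-! Generated: rules and relators. -/

set_option Elab.async false

namespace Cfsg.Agent.ThMult

open Cfsg.Agent.DCoset Cfsg.Agent.CosetCert Cfsg.Agent.LyMult

def rSS : Store := (.leaf 0x20001000100010001000100010001000100010001000100010001000100010001000100010001000100010001000100010001000100010001000100010001000100010001000100010001000100010001000100010001000100010001000100000000000000000000000000000000000000000000000000000000000000000000000000000000000000000000000000000000000000000000000000000000000000000000000000000000000000000000000000000000000000000000000000000000000000000000000000000000)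

noncomputable def rS : Nat → Nat := get16 rSS

def rDS : Store := (.leaf 0x10001000100010001000100010001000100010001000100010001000100010001000100010001000100010001000100010001000100010001000100010001000100010001000100010001000100010001000100010001000100010001000100000000000000000000000000000000000000000000000000000000000000000000000000000000000000000000000000000000000000000000000000000000000000000000000000000000000000000000000000000000000000000000000000000000000000000000000000000000)

noncomputable def rD : Nat → Nat := get16 rDS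

def rUS_1 : Store := (.node 13 (.node 6 (.node 3 (.node 1 (.leaf 0x1) (.node 2 (.leaf 0x10001) (.leaf 0x20001))) (.node 4 (.leaf 0x30001) (.node 5 (.leaf 0x40001) (.leaf 0x50001)))) (.node 9 (.node 7 (.leaf 0x60001) (.node 8 (.leaf 0x70001) (.leaf 0x80001))) (.node 11 (.node 10 (.leaf 0x90001) (.leaf 0xa0001)) (.node 12 (.leaf 0xb0001) (.leaf 0xc0001))))) (.node 19 (.node 16 (.node 14 (.leaf 0xd0001) (.node 15 (.leaf 0xe0001) (.leaf 0xf0001))) (.node 17 (.leaf 0x100001) (.node 18 (.leaf 0x110001) (.leaf 0x120001)))) (.node 22 (.node 20 (.leaf 0x130001) (.node 21 (.leaf 0x140001) (.leaf 0x150001))) (.node 24 (.node 23 (.leaf 0x160001) (.leaf 0x170001)) (.node 25 (.leaf 0x180001) (.leaf 0x190001))))))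

def rUS_2 : Store := (.node 39 (.node 32 (.node 29 (.node 27 (.leaf 0x1a0001) (.node 28 (.leaf 0x1b0001) (.leaf 0x1c0001))) (.node 30 (.leaf 0x1d0001) (.node 31 (.leaf 0x1e0001) (.leaf 0x1f0001)))) (.node 35 (.node 33 (.leaf 0x200001) (.node 34 (.leaf 0x210001) (.leaf 0x220001))) (.node 37 (.node 36 (.leaf 0x230001) (.leaf 0x240001)) (.node 38 (.leaf 0x250001) (.leaf 0x260001))))) (.node 45 (.node 42 (.node 40 (.leaf 0x270001) (.node 41 (.leaf 0x280001) (.leaf 0x290001))) (.node 43 (.leaf 0x2a0001) (.node 44 (.leaf 0x2b0001) (.leaf 0x2c0001)))) (.node 48 (.node 46 (.leaf 0x2d0001) (.node 47 (.leaf 0x2e0001) (.leaf 0x2f0001))) (.node 50 (.node 49 (.leaf 0x300001) (.leaf 0x310001)) (.node 51 (.leaf 0x320001) (.leaf 0x330001))))))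

def rUS_3 : Store := (.node 26 rUS_1 rUS_2)

def rUS_4 : Store := (.node 65 (.node 58 (.node 55 (.node 53 (.leaf 0x340001) (.node 54 (.leaf 0x350001) (.leaf 0x360001))) (.node 56 (.leaf 0x370001) (.node 57 (.leaf 0x100001) (.leaf 0x110001)))) (.node 61 (.node 59 (.leaf 0x120001) (.node 60 (.leaf 0x130001) (.leaf 0x140001))) (.node 63 (.node 62 (.leaf 0x150001) (.leaf 0x160001)) (.node 64 (.leaf 0x170001) (.leaf 0x180001))))) (.node 71 (.node 68 (.node 66 (.leaf 0x190001) (.node 67 (.leaf 0x1a0001) (.leaf 0x1b0001))) (.node 69 (.leaf 0x1c0001) (.node 70 (.leaf 0x1d0001) (.leaf 0x1e0001)))) (.node 74 (.node 72 (.leaf 0x1f0001) (.node 73 (.leaf 0x200001) (.leaf 0x210001))) (.node 76 (.node 75 (.leaf 0x220001) (.leaf 0x230001)) (.node 77 (.leaf 0x240001) (.leaf 0x250001))))))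

def rUS_5 : Store := (.node 91 (.node 84 (.node 81 (.node 79 (.leaf 0x260001) (.node 80 (.leaf 0x270001) (.leaf 0x280001))) (.node 82 (.leaf 0x290001) (.node 83 (.leaf 0x2a0001) (.leaf 0x2b0001)))) (.node 87 (.node 85 (.leaf 0x2c0001) (.node 86 (.leaf 0x2d0001) (.leaf 0x2e0001))) (.node 89 (.node 88 (.leaf 0x2f0001) (.leaf 0x300001)) (.node 90 (.leaf 0x310001) (.leaf 0x320001))))) (.node 97 (.node 94 (.node 92 (.leaf 0x330001) (.node 93 (.leaf 0x340001) (.leaf 0x350001))) (.node 95 (.leaf 0x360001) (.node 96 (.leaf 0x370001) (.leaf 0x40001)))) (.node 100 (.node 98 (.leaf 0x1) (.node 99 (.leaf 0x20001) (.leaf 0x60001))) (.node 102 (.node 101 (.leaf 0x90001) (.leaf 0xa0001)) (.node 103 (.leaf 0xb0001) (.leaf 0x0))))))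

def rUS_6 : Store := (.node 78 rUS_4 rUS_5)

def rUS : Store := (.node 52 rUS_3 rUS_6)

def rVS_1 : Store := (.node 13 (.node 6 (.node 3 (.node 1 (.leaf 0x1) (.node 2 (.leaf 0x10001) (.leaf 0x20001))) (.node 4 (.leaf 0x30001) (.node 5 (.leaf 0x40001) (.leaf 0x50001)))) (.node 9 (.node 7 (.leaf 0x60001) (.node 8 (.leaf 0x70001) (.leaf 0x80001))) (.node 11 (.node 10 (.leaf 0x90001) (.leaf 0xa0001)) (.node 12 (.leaf 0xb0001) (.leaf 0xc0001))))) (.node 19 (.node 16 (.node 14 (.leaf 0xd0001) (.node 15 (.leaf 0xe0001) (.leaf 0xf0001))) (.node 17 (.leaf 0x100001) (.node 18 (.leaf 0x110001) (.leaf 0x120001)))) (.node 22 (.node 20 (.leaf 0x130001) (.node 21 (.leaf 0x140001) (.leaf 0x150001))) (.node 24 (.node 23 (.leaf 0x160001) (.leaf 0x170001)) (.node 25 (.leaf 0x180001) (.leaf 0x190001))))))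

def rVS_2 : Store := (.node 39 (.node 32 (.node 29 (.node 27 (.leaf 0x1a0001) (.node 28 (.leaf 0x1b0001) (.leaf 0x1c0001))) (.node 30 (.leaf 0x1d0001) (.node 31 (.leaf 0x1e0001) (.leaf 0x1f0001)))) (.node 35 (.node 33 (.leaf 0x200001) (.node 34 (.leaf 0x210001) (.leaf 0x220001))) (.node 37 (.node 36 (.leaf 0x230001) (.leaf 0x240001)) (.node 38 (.leaf 0x250001) (.leaf 0x260001))))) (.node 45 (.node 42 (.node 40 (.leaf 0x270001) (.node 41 (.leaf 0x280001) (.leaf 0x290001))) (.node 43 (.leaf 0x2a0001) (.node 44 (.leaf 0x2b0001) (.leaf 0x2c0001)))) (.node 48 (.node 46 (.leaf 0x2d0001) (.node 47 (.leaf 0x2e0001) (.leaf 0x2f0001))) (.node 50 (.node 49 (.leaf 0x300001) (.leaf 0x310001)) (.node 51 (.leaf 0x320001) (.leaf 0x330001))))))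

def rVS_3 : Store := (.node 26 rVS_1 rVS_2)

def rVS_4 : Store := (.node 65 (.node 58 (.node 55 (.node 53 (.leaf 0x340001) (.node 54 (.leaf 0x350001) (.leaf 0x360001))) (.node 56 (.leaf 0x370001) (.node 57 (.leaf 0x100001) (.leaf 0x110001)))) (.node 61 (.node 59 (.leaf 0x120001) (.node 60 (.leaf 0x130001) (.leaf 0x140001))) (.node 63 (.node 62 (.leaf 0x150001) (.leaf 0x160001)) (.node 64 (.leaf 0x170001) (.leaf 0x180001))))) (.node 71 (.node 68 (.node 66 (.leaf 0x190001) (.node 67 (.leaf 0x1a0001) (.leaf 0x1b0001))) (.node 69 (.leaf 0x1c0001) (.node 70 (.leaf 0x1d0001) (.leaf 0x1e0001)))) (.node 74 (.node 72 (.leaf 0x1f0001) (.node 73 (.leaf 0x200001) (.leaf 0x210001))) (.node 76 (.node 75 (.leaf 0x220001) (.leaf 0x230001)) (.node 77 (.leaf 0x240001) (.leaf 0x250001))))))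

def rVS_5 : Store := (.node 91 (.node 84 (.node 81 (.node 79 (.leaf 0x260001) (.node 80 (.leaf 0x270001) (.leaf 0x280001))) (.node 82 (.leaf 0x290001) (.node 83 (.leaf 0x2a0001) (.leaf 0x2b0001)))) (.node 87 (.node 85 (.leaf 0x2c0001) (.node 86 (.leaf 0x2d0001) (.leaf 0x2e0001))) (.node 89 (.node 88 (.leaf 0x2f0001) (.leaf 0x300001)) (.node 90 (.leaf 0x310001) (.leaf 0x320001))))) (.node 97 (.node 94 (.node 92 (.leaf 0x330001) (.node 93 (.leaf 0x340001) (.leaf 0x350001))) (.node 95 (.leaf 0x360001) (.node 96 (.leaf 0x370001) (.leaf 0x31040002)))) (.node 100 (.node 98 (.leaf 0x32000002) (.node 99 (.leaf 0x33020002) (.leaf 0x80001))) (.node 102 (.node 101 (.leaf 0x340c0002) (.leaf 0x350d0002)) (.node 103 (.leaf 0x360e0002) (.leaf 0x141002000004))))))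

def rVS_6 : Store := (.node 78 rVS_4 rVS_5)

def rVS : Store := (.node 52 rVS_3 rVS_6)

def invTS : Store := (.leaf 0x100020000)

noncomputable def invT : Nat → Nat := get16 invTS

def mulTS : Store := (.leaf 0x10003000100000002000300020001)

noncomputable def mulT : Nat → Nat := get16 mulTS

def relLenS : Store := (.leaf 0x30007000700020002000100030003000300030003)

noncomputable def relLen : Nat → Nat := get16 relLenS

def relWS_1 : Store := (.node 9 (.node 4 (.node 2 (.node 1 (.leaf 0x300020003) (.leaf 0x4030002)) (.node 3 (.leaf 0x300020003) (.leaf 0x0))) (.node 6 (.node 5 (.leaf 0x0) (.leaf 0x0)) (.node 7 (.leaf 0x0) (.node 8 (.leaf 0x4030002) (.leaf 0x300020003))))) (.node 14 (.node 11 (.node 10 (.leaf 0x4030002) (.leaf 0x0)) (.node 12 (.leaf 0x0) (.node 13 (.leaf 0x0) (.leaf 0x0)))) (.node 16 (.node 15 (.leaf 0x3040201020001030008) (.leaf 0x4010002010300020008)) (.node 17 (.leaf 0x300020003) (.node 18 (.leaf 0x0) (.leaf 0x0))))))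

def relWS_2 : Store := (.node 28 (.node 23 (.node 21 (.node 20 (.leaf 0x0) (.leaf 0x0)) (.node 22 (.leaf 0x4010002010300020008) (.leaf 0x300020003))) (.node 25 (.node 24 (.leaf 0x3010002010300020008) (.leaf 0x0)) (.node 26 (.leaf 0x0) (.node 27 (.leaf 0x0) (.leaf 0x0))))) (.node 33 (.node 30 (.node 29 (.leaf 0x300020003) (.leaf 0x3010002010300020008)) (.node 31 (.leaf 0x3040201020001030008) (.node 32 (.leaf 0x0) (.leaf 0x0)))) (.node 35 (.node 34 (.leaf 0x0) (.leaf 0x0)) (.node 36 (.leaf 0x70704050500020007) (.node 37 (.leaf 0x0) (.leaf 0x0))))))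

def relWS_3 : Store := (.node 19 relWS_1 relWS_2)

def relWS_4 : Store := (.node 47 (.node 42 (.node 40 (.node 39 (.leaf 0x0) (.leaf 0x0)) (.node 41 (.leaf 0x0) (.leaf 0x0))) (.node 44 (.node 43 (.leaf 0x700020003) (.leaf 0x700020003)) (.node 45 (.leaf 0x0) (.node 46 (.leaf 0x0) (.leaf 0x0))))) (.node 52 (.node 49 (.node 48 (.leaf 0x0) (.leaf 0x0)) (.node 50 (.leaf 0x7020000020005) (.node 51 (.leaf 0x700020003) (.leaf 0x0)))) (.node 54 (.node 53 (.leaf 0x0) (.leaf 0x0)) (.node 55 (.leaf 0x0) (.node 56 (.leaf 0x0) (.leaf 0x500020003))))))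

def relWS_5 : Store := (.node 67 (.node 62 (.node 59 (.node 58 (.leaf 0x70001) (.leaf 0x500020003)) (.node 60 (.leaf 0x70001) (.node 61 (.leaf 0x500020003) (.leaf 0x70001)))) (.node 64 (.node 63 (.leaf 0x500020003) (.leaf 0x70001)) (.node 65 (.leaf 0x500020003) (.node 66 (.leaf 0x70001) (.leaf 0x500020003))))) (.node 72 (.node 69 (.node 68 (.leaf 0x70001) (.leaf 0x500020003)) (.node 70 (.leaf 0x702000003) (.node 71 (.leaf 0x7070305050005) (.leaf 0x707030002030203070403020304050505040302030407070505001a)))) (.node 74 (.node 73 (.leaf 0x7070305050005) (.leaf 0x0)) (.node 75 (.leaf 0x0) (.node 76 (.leaf 0x0) (.leaf 0x0))))))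

def relWS_6 : Store := (.node 57 relWS_4 relWS_5)

def relWS : Store := (.node 38 relWS_3 relWS_6)

def relTlS : Store := (.node 5 (.node 2 (.node 1 (.leaf 0x301414101003040007) (.leaf 0x30141410100200030008)) (.node 3 (.leaf 0x1c1814141410101002000301020001030010) (.node 4 (.leaf 0x1c1814141410101003010002010204030010) (.leaf 0x1c1814141410101002000301020001040010)))) (.node 8 (.node 6 (.leaf 0x37141007070405050008) (.node 7 (.leaf 0x1414101002000002050009) (.leaf 0x141410100200050007))) (.node 9 (.leaf 0x24201414141410101010000205000d) (.node 10 (.leaf 0x24201414141410101010020007000d) (.leaf 0x2c2807070305050007)))))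

/-- The rules and relators. -/
noncomputable def rules : Rules where
  nT := 3
  invT := invT
  mulT a b := mulT (Nat.add (Nat.mul a 3) b)
  nRule := 104
  rS := rS
  rD := rD
  rU := rUS.get
  rV := rVS.get
  nRel := 11
  relHd _ := 1
  relLen := relLen
  relW r m := relWS.get (Nat.add (Nat.mul r 7) m)
  relT _ _ := 1
  relTl := relTlS.get

/-- The indices of the relators used, among those of the enumeration. -/
def relIdx : List Nat := [0, 1, 3, 4, 5, 6, 8, 10, 11, 12, 21]

end Cfsg.Agent.ThMult
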