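import Cfsg.Agent.ThMult.CheckSteps
import Cfsg.Agent.DCoset.Th.RelWords
import Cfsg.Agent.DCoset.Th.Sound

/-! The rules hold in every central extension, and the derivation kills the central values. -/

set_option autoImplicit false
set_option maxRecDepth 100000

namespace Cfsg.Agent.ThMult

open Cfsg.Agent.DCoset Cfsg.Agent.CosetCert
open Cfsg.Agent.DCoset.Th (HGroup ql ql_append ql_cons qL gCode uLet vLet okL tupOf ql_eq baseWords relSplit)
open Cfsg.Agent.LyMult (Cyc wModel flds kp kp_congr kp_zero kp_add kp_single kp_mem kp_nsmul)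
open Cfsg.Spor.Th (Gen)

/-- The body of a packed word. -/
def packL : List Nat → Nat
  | [] => 0
  | x :: l => x + 256 * packL l

/-- A packed word. -/
def pkW (l : List Nat) : Nat := packL l * 65536 + l.length

theorem valW_packL {M : Type*} [Monoid M] (lv : Nat → M) : ∀ l : List Nat, (∀ x ∈ l, x < 256) →
    valW lv l.length (packL l) = (l.map lv).prod
  | [], _ => rfl
  | x :: l, h => by
    have hx := h x List.mem_cons_self
    rw [List.length_cons, valW, packL, Nat.add_mul_mod_self_left, Nat.mod_eq_of_lt hx,
      Nat.add_mul_div_left _ _ (by norm_num : 0 < 256), Nat.div_eq_of_lt hx, Nat.zero_add,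
      valW_packL lv l fun y hy => h y (List.mem_cons_of_mem _ hy), List.map_cons, List.prod_cons]

theorem val_pkW {M : Type*} [Monoid M] (lv : Nat → M) (l : List Nat)
    (h : (l.all (Nat.blt · 256) && Nat.blt l.length 65536) = true) :
    val lv (pkW l) = (l.map lv).prod := by
  rw [Bool.and_eq_true] at h
  have hn : l.length < 65536 := Nat.le_of_ble_eq_true h.2
  rw [val, show pkW l % 65536 = l.length by simp [pkW]; omega,
    show pkW l / 65536 = packL l by simp [pkW]; omega]
  exact valW_packL lv l fun x hx => Nat.le_of_ble_eq_true (List.all_eq_true.1 h.1 x hx)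

theorem cyc_ok : Cyc.Ok cyc 819 where
  pos := by decide +kernel
  apart := by decide +kernel
  idx_lt := by decide +kernel

theorem model_below : LyMult.Below Th.model 819 :=
  fun a => ⟨fun l => ((Th.rho a)⁻¹ (Th.bpt l)).val, fun l => ((Th.rho a)⁻¹ (Th.bpt l)).isLt, rfl⟩

/-- The exponents of the central value going with the `k`th conjugation. -/
def omE (k : Nat) (i : Nat) : Nat := if [9, 10, 11, 16, 12, 13, 14].getD k 16 = i then 1 else 0

/-- The exponents of `z`. -/
def zE (i : Nat) : Nat := if i < 2 then 1 else 0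

/-- The exponents of the values of the six relators, each `u⁻¹` spelled `u c a`. -/
def relE (j : Nat) (i : Nat) : Nat :=
  ([[2, 2, 0, 0, 0, 0, 0, 0, 1, 0, 0, 0, 0, 0, 0, 0], [3, 3, 1, 1],
    [1, 1, 0, 0, 0, 0, 0, 0, 0, 0, 0, 0, 0, 0, 0, 1], [2, 2], [4, 4, 0, 0, 1, 1],
    [0, 0, 0, 0, 0, 0, 1, 1]].getD j []).getD i 0

section

variable {E : Type} [Group E]

/-- The value of a signed generator. -/
def evE (ι : HGroup →* E) (U : E) (x : Gen × Bool) : E :=
  if x.1 = Gen.u then cond x.2 U U⁻¹ else ι (ql [gCode x])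

/-- The value of a signed word. -/
def wE (ι : HGroup →* E) (U : E) (l : List (Gen × Bool)) : E := (l.map (evE ι U)).prod

theorem wE_ql (ι : HGroup →* E) (U : E) : ∀ l : List (Gen × Bool), (∀ x ∈ l, x.1 ≠ Gen.u) →
    wE ι U l = ι (ql (l.map gCode))
  | [], _ => by simp [wE, ql]
  | x :: l, h => by
    rw [wE, List.map_cons, List.prod_cons,
      show (l.map (evE ι U)).prod = _ from wE_ql ι U l fun y hy => h y (List.mem_cons_of_mem _ hy),
      evE, if_neg (h x List.mem_cons_self), ← map_mul, ← ql_append]
    rfl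

theorem wE_rotate (ι : HGroup →* E) (U : E) (l : List (Gen × Bool)) (i : Nat) {c : E}
    (hc : c ∈ Subgroup.center E) (h : wE ι U l = c) : wE ι U (l.rotate i) = c := by
  have e : wE ι U (l.take (i % l.length)) * wE ι U (l.drop (i % l.length)) = c := by
    rw [wE, wE, ← List.prod_append, ← List.map_append, List.take_append_drop]
    exact h
  rw [List.rotate_eq_drop_append_take_mod, wE, List.map_append, List.prod_append]
  show wE ι U _ * wE ι U _ = c
  rw [← inv_mul_eq_iff_eq_mul.2 e.symm, mul_assoc, ← Subgroup.mem_center_iff.1 hc, inv_mul_cancel_left]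

/-- The equations among the lifts. -/
structure Eqs (ι : HGroup →* E) (U : E) (kv : Nat → E) : Prop where
  central : ∀ i, i < 16 → kv i ∈ Subgroup.center E
  order : ∀ i, i < 16 → kv i ^ cyc.len i = 1
  conj : ∀ k, k < 7 → U * (ι (ql [vLet.getD k 0]) * kp kv 16 (omE k)) = ι (ql [uLet.getD k 0]) * U
  sq : U * U = ι (ql [0, 2]) * kp kv 16 zE
  rel : ∀ j, j < 6 → wE ι U (baseWords.getD j []) = kp kv 16 (relE j)

end

/-- The base condition of the model. -/
theorem base_check : Nat.beq wtab.base
    (pk16 (16 + 5) (flds cyc (fun _ => 0) (fld Th.tab.base))) = true := by decide +kernel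

theorem flds_base (e : Nat → Nat) {h : Nat → Nat} (hh : ∀ i, h i < 819)
    (hb : Th.tab.base = pk16 5 h) :
    pk16 (16 + 5) (flds cyc e h) = pk16 (16 + 5) (flds cyc e (fld Th.tab.base)) :=
  pk16_congr _ fun l hl => by
    unfold flds
    split_ifs with hl'
    · rfl
    · rw [hb, fld_pk16 _ _ (fun i => by have := hh i; omega)]
      change ¬ l < 16 at hl'
      change l - 16 < 5
      omega

variable {E : Type} [Group E] {ι : HGroup →* E} {U : E} {kv : Nat → E}

/-- The model in the extension. -/
noncomputable def model (H : Eqs ι U kv) : Model E :=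
  wModel Th.model (show 819 ≤ 65536 by norm_num) model_below cyc cyc_ok wtab.base
    (fun h hh hb => by
      rw [Nat.eq_of_beq_eq_true base_check]
      exact (flds_base _ hh hb).symm)
    ι kv H.central H.order

/-- The extra letters. -/
def Tv (U : E) (τ : Nat) : E := if τ = 0 then 1 else if τ = 1 then U else U⁻¹

theorem lv_low (H : Eqs ι U kv) {g : Nat} (hg : g < 16) : (model H).lv g = ι (ql [g]) := by
  show (if g < 16 then ι (qL g) else _) = _
  rw [if_pos hg, ql_cons, show ql [] = (1 : HGroup) from rfl, mul_one]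

theorem lv_high (H : Eqs ι U kv) {g : Nat} (hg : 16 ≤ g) :
    (model H).lv g = kv (cyc.idx (g - 16)) ^ cyc.inc (g - 16) := by
  show (if g < 16 then _ else kv (cyc.idx (g - 16)) ^ cyc.inc (g - 16)) = _
  rw [if_neg (by omega)]

/-- The exponents of a list of central letters. -/
noncomputable def expOf : List Nat → Nat → Nat
  | [], _ => 0
  | g :: l, i => (if i = cyc.idx (g - 16) then cyc.inc (g - 16) else 0) + expOf l i

/-- A list of central letters has the given exponents. -/
noncomputable def hasExp (l : List Nat) (e : Nat → Nat) : Bool :=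
  l.all (fun g => Nat.ble 16 g && Nat.blt g 56) &&
    allFrom (fun i => Nat.beq (expOf l i % cyc.len i) (e i % cyc.len i)) 0 16

theorem high_prod (H : Eqs ι U kv) : ∀ l : List Nat, (∀ g ∈ l, 16 ≤ g ∧ g < 56) →
    (l.map (model H).lv).prod = kp kv 16 (expOf l)
  | [], _ => (kp_zero kv 16).symm
  | g :: l, h => by
    obtain ⟨h1, h2⟩ := h g List.mem_cons_self
    rw [List.map_cons, List.prod_cons, high_prod H l fun y hy => h y (List.mem_cons_of_mem _ hy),
      lv_high H h1, show kp kv 16 (expOf (g :: l)) = _ from kp_add kv _ _ 16 H.central, kp_single,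
      if_pos (show cyc.idx (g - 16) < 16 from cyc_ok.idx_lt _ (show g - 16 < 40 by omega))]

theorem high_val (H : Eqs ι U kv) (l : List Nat) (e : Nat → Nat) (h : hasExp l e = true) :
    (l.map (model H).lv).prod = kp kv 16 e := by
  rw [hasExp, Bool.and_eq_true] at h
  rw [high_prod H l fun g hg => by
    have h1 := List.all_eq_true.1 h.1 g hg
    rw [Bool.and_eq_true] at h1
    exact ⟨Nat.le_of_ble_eq_true h1.1, Nat.le_of_ble_eq_true h1.2⟩]
  refine kp_congr kv 16 fun i hi => ?_
  rw [pow_eq_pow_mod _ (H.order i hi), Nat.eq_of_beq_eq_true (allFrom_all h.2 hi),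
    ← pow_eq_pow_mod _ (H.order i hi)]

theorem low_prod (H : Eqs ι U kv) : ∀ l : List Nat, (∀ g ∈ l, g < 16) →
    (l.map (model H).lv).prod = ι (ql l)
  | [], _ => by simp [ql]
  | g :: l, h => by
    rw [List.map_cons, List.prod_cons, low_prod H l fun y hy => h y (List.mem_cons_of_mem _ hy),
      lv_low H (h g List.mem_cons_self), ← map_mul, ← ql_append]
    rfl

theorem val_list (H : Eqs ι U kv) {w : Nat} (l m : List Nat) (e : Nat → Nat)
    (h : (Nat.beq w (pkW (l ++ m)) && l.all (Nat.blt · 16) && hasExp m e &&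
      ((l ++ m).all (Nat.blt · 256) && Nat.blt (l ++ m).length 65536)) = true) :
    val (model H).lv w = ι (ql l) * kp kv 16 e := by
  simp only [Bool.and_eq_true] at h
  obtain ⟨⟨⟨h1, h2⟩, h3⟩, h4⟩ := h
  rw [Nat.eq_of_beq_eq_true h1, val_pkW _ _ (by rw [Bool.and_eq_true]; exact h4), List.map_append,
    List.prod_append, low_prod H l fun x hx => Nat.le_of_ble_eq_true (List.all_eq_true.1 h2 x hx),
    high_val H m e h3]

/-- The letters of a packed word. -/
def unpk (w : Nat) : List Nat :=
  (List.range (w % 65536)).map fun i => w / 65536 / 256 ^ i % 256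

/-- A packed word has a low part `l` and central exponents `e`. -/
noncomputable def isWord (w : Nat) (l : List Nat) (e : Nat → Nat) : Bool :=
  Nat.beq w (pkW (l ++ (unpk w).drop l.length)) && l.all (Nat.blt · 16) &&
    hasExp ((unpk w).drop l.length) e &&
    ((l ++ (unpk w).drop l.length).all (Nat.blt · 256) &&
      Nat.blt (l ++ (unpk w).drop l.length).length 65536)

theorem val_word (H : Eqs ι U kv) {w : Nat} {l : List Nat} {e : Nat → Nat} (h : isWord w l e = true) :
    val (model H).lv w = ι (ql l) * kp kv 16 e :=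
  val_list H l _ e h

theorem val_low (H : Eqs ι U kv) {w : Nat} {l : List Nat} (h : isWord w l (fun _ => 0) = true) :
    val (model H).lv w = ι (ql l) := by
  rw [val_word H h, kp_zero, mul_one]

theorem rules_triv : allFrom (fun r => Nat.beq (rules.rS r) 0 && Nat.beq (rules.rD r) 0 &&
    Nat.beq (rules.rU r) (rules.rV r)) 0 56 = true := by decide +kernel

theorem rules_comm : allFrom (fun j => Nat.beq (rules.rS (56 + j)) 1 && Nat.beq (rules.rD (56 + j)) 1 &&
    (Nat.beq (rules.rU (56 + j)) (pkW [16 + j]) && Nat.beq (rules.rV (56 + j)) (pkW [16 + j]))) 0 40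
      = true := by decide +kernel

theorem rules_conj : allFrom (fun k => Nat.beq (rules.rS (96 + k)) 1 && Nat.beq (rules.rD (96 + k)) 1 &&
    (isWord (rules.rU (96 + k)) [uLet.getD k 0] (fun _ => 0) &&
      isWord (rules.rV (96 + k)) [vLet.getD k 0] (omE k))) 0 7 = true := by decide +kernel

theorem rules_sq : (Nat.beq (rules.rS 103) 2 && Nat.beq (rules.rD 103) 1 &&
    (isWord (rules.rU 103) [] (fun _ => 0) && isWord (rules.rV 103) [0, 2] zE)) = true := by
  decide +kernel

theorem okWord_all : allFrom (fun r => wtab.okWord (rules.rU r) && wtab.okWord (rules.rV r) &&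
    Nat.blt (rules.rS r) 3 && Nat.blt (rules.rD r) 3) 0 104 = true := by decide +kernel

/-- The parts of the `r`th relator used. -/
def parts (r : Nat) : List (List (Gen × Bool)) :=
  (relSplit.getD (relIdx.getD r 0) (0, 0, [])).2.2

/-- The relator it comes from. -/
def baseNo (r : Nat) : Nat := (relSplit.getD (relIdx.getD r 0) (0, 0, [])).1

theorem rel_check : allFrom (fun r =>
    Nat.blt (baseNo r) 6 && decide (((parts r).flatMap fun p => (Gen.u, true) :: p) =
      (baseWords.getD (baseNo r) []).rotate (relSplit.getD (relIdx.getD r 0) (0, 0, [])).2.1) &&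
    Nat.beq (parts r).length (rules.relLen r + 1) &&
    ((parts r).all fun p => p.all fun x => decide (x.1 ≠ Gen.u)) &&
    allFrom (fun m => wtab.okWord (rules.relW r m) &&
      isWord (rules.relW r m) (((parts r).getD m []).map gCode) (fun _ => 0)) 0 (rules.relLen r) &&
    (wtab.okWord (rules.relTl r) &&
      isWord (rules.relTl r) ((FreeGroup.invRev ((parts r).getD (rules.relLen r) [])).map gCode)
        (relE (baseNo r)))) 0 11 = true := by decide +kernel

theorem inv_letter : ∀ g : Fin 7, ∀ b : Bool,
    (okL [gCode (Th.genOf g, !b), gCode (Th.genOf g, b)] && okL [] &&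
      Nat.beq (tupOf [gCode (Th.genOf g, !b), gCode (Th.genOf g, b)]) (tupOf [])) = true := by
  decide +kernel

theorem ql_invRev : ∀ l : List (Gen × Bool), (∀ x ∈ l, x.1 ≠ Gen.u) →
    ql ((FreeGroup.invRev l).map gCode) = (ql (l.map gCode))⁻¹
  | [], _ => by simp [ql, FreeGroup.invRev]
  | (g, b) :: l, h => by
    obtain ⟨i, rfl⟩ : ∃ i : Fin 7, Th.genOf i = g := by
      have hg := h (g, b) List.mem_cons_self
      cases g
      · exact ⟨0, rfl⟩
      · exact ⟨1, rfl⟩
      · exact ⟨2, rfl⟩
      · exact ⟨3, rfl⟩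
      · exact ⟨4, rfl⟩
      · exact ⟨5, rfl⟩
      · exact ⟨6, rfl⟩
      · exact absurd rfl hg
    rw [show FreeGroup.invRev ((Th.genOf i, b) :: l) = FreeGroup.invRev l ++ [(Th.genOf i, !b)] by
        simp [FreeGroup.invRev], List.map_append, ql_append,
      ql_invRev l fun y hy => h y (List.mem_cons_of_mem _ hy), List.map_cons (l := l), ql_cons, mul_inv_rev]
    congr 1
    refine eq_inv_of_mul_eq_one_left ?_
    rw [show qL (gCode (Th.genOf i, b)) = ql [gCode (Th.genOf i, b)] by simp [ql],
      show ql (List.map gCode [(Th.genOf i, !b)]) = ql [gCode (Th.genOf i, !b)] from rfl, ← ql_append]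
    exact (ql_eq (inv_letter i b)).trans rfl

theorem wE_flat (ι : HGroup →* E) (U : E) : ∀ ps : List (List (Gen × Bool)),
    wE ι U (ps.flatMap fun p => (Gen.u, true) :: p) = (ps.map fun p => U * wE ι U p).prod
  | [] => rfl
  | p :: ps => by
    rw [List.flatMap_cons, wE, List.map_append, List.prod_append, List.map_cons, List.prod_cons,
      List.map_cons, List.prod_cons, show (ps.flatMap _ |>.map (evE ι U)).prod = _ from wE_flat ι U ps]
    rfl

theorem prod_shift (U : E) : ∀ (ps : List E) (x : E),
    ((ps ++ [x]).map (U * ·)).prod = U * (ps.map (· * U)).prod * x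
  | [], x => by simp
  | p :: ps, x => by
    rw [List.cons_append, List.map_cons, List.prod_cons, prod_shift U ps x, List.map_cons, List.prod_cons]
    simp only [mul_assoc]

theorem rel_eq (H : Eqs ι U kv) : ∀ r, r < 11 →
    Tv U (rules.relHd r) * ((List.range (rules.relLen r)).map fun m =>
      val (model H).lv (rules.relW r m) * Tv U (rules.relT r m)).prod =
        val (model H).lv (rules.relTl r) := by
  intro r hr
  have h := allFrom_all rel_check hr
  simp only [Bool.and_eq_true, decide_eq_true_eq] at h
  obtain ⟨⟨⟨⟨⟨hj, hflat⟩, hlen⟩, hu⟩, hW⟩, -, hT⟩ := h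
  set n := rules.relLen r with hn
  have hlen' : (parts r).length = n + 1 := Nat.eq_of_beq_eq_true hlen
  have hnu : ∀ m, ∀ x ∈ (parts r).getD m [], x.1 ≠ Gen.u := by
    intro m x hx
    rcases Nat.lt_or_ge m (parts r).length with hm | hm
    · rw [List.getD_eq_getElem _ _ hm] at hx
      exact of_decide_eq_true (List.all_eq_true.1 (List.all_eq_true.1 hu _ (List.getElem_mem hm)) x hx)
    · rw [List.getD_eq_default _ _ hm] at hx
      exact absurd hx List.not_mem_nil
  let c := kp kv 16 (relE (baseNo r))
  have hc : c ∈ Subgroup.center E := kp_mem kv _ 16 _ H.central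
  have hsplit : parts r = (List.range n).map (fun m => (parts r).getD m []) ++ [(parts r).getD n []] := by
    apply List.ext_getElem
    · simp [hlen']
    · intro m h1 h2
      rcases Nat.lt_or_ge m n with hm | hm
      · rw [List.getElem_append_left (by simpa using hm), List.getElem_map, List.getElem_range,
          List.getD_eq_getElem _ _ h1]
      · have : m = n := by omega
        subst this
        rw [List.getElem_append_right (by simp), List.getElem_singleton, List.getD_eq_getElem _ _ h1]
  have key : U * ((List.range n).map fun m => ι (ql (((parts r).getD m []).map gCode)) * U).prod *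
      ι (ql (((parts r).getD n []).map gCode)) = c := by
    have e := wE_rotate ι U _ (relSplit.getD (relIdx.getD r 0) (0, 0, [])).2.1 hc
      (H.rel _ (Nat.le_of_ble_eq_true hj))
    rw [← hflat, wE_flat, hsplit] at e
    have e2 : ((((List.range n).map fun m => wE ι U ((parts r).getD m [])) ++
        [wE ι U ((parts r).getD n [])]).map (U * ·)).prod = c := by
      rw [← e]
      simp [List.map_map, Function.comp_def]
    rw [prod_shift, List.map_map] at e2
    rw [← e2, wE_ql ι U _ (hnu n)]
    congr 3
    exact List.map_congr_left fun m _ => by rw [Function.comp_apply, wE_ql ι U _ (hnu m)]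
  rw [val_word H hT, ql_invRev _ (hnu n), map_inv]
  show (if (1 : Nat) = 0 then 1 else if (1 : Nat) = 1 then U else U⁻¹) * _ = _
  rw [if_neg one_ne_zero, if_pos rfl]
  rw [show ((List.range n).map fun m => val (model H).lv (rules.relW r m) * Tv U (rules.relT r m)) =
    (List.range n).map fun m => ι (ql (((parts r).getD m []).map gCode)) * U from
      List.map_congr_left fun m hm => by
        have h2 := allFrom_all hW (List.mem_range.1 hm)
        rw [Bool.and_eq_true] at h2
        rw [val_low H h2.2]
        rfl]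
  rw [Subgroup.mem_center_iff.1 hc]
  show _ = c * _
  rw [← key, mul_inv_cancel_right]

theorem sound (H : Eqs ι U kv) : rules.Sound (model H) (Tv U) where
  T_zero := rfl
  inv_eq τ hτ := by
    change τ < 3 at hτ
    interval_cases τ <;> refine ⟨by decide +kernel, ?_⟩
    · rw [show rules.invT 0 = 0 by decide +kernel]; simp [Tv]
    · rw [show rules.invT 1 = 2 by decide +kernel]; simp [Tv]
    · rw [show rules.invT 2 = 1 by decide +kernel]; simp [Tv]
  mul_eq σ τ hσ hτ hne := by
    change σ < 3 at hσ
    change τ < 3 at hτ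
    interval_cases σ <;> interval_cases τ
    · rw [show rules.mulT 0 0 = 1 by decide +kernel]; simp [Tv, rules]
    · rw [show rules.mulT 0 1 = 2 by decide +kernel]; simp [Tv, rules]
    · rw [show rules.mulT 0 2 = 3 by decide +kernel]; simp [Tv, rules]
    · rw [show rules.mulT 1 0 = 2 by decide +kernel]; simp [Tv, rules]
    · exact absurd (by decide +kernel) hne
    · rw [show rules.mulT 1 2 = 1 by decide +kernel]; simp [Tv, rules]
    · rw [show rules.mulT 2 0 = 3 by decide +kernel]; simp [Tv, rules]
    · rw [show rules.mulT 2 1 = 1 by decide +kernel]; simp [Tv, rules]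
    · exact absurd (by decide +kernel) hne
  rule_ok r hr := by
    change r < 104 at hr
    have h0 := allFrom_all okWord_all hr
    simp only [Bool.and_eq_true] at h0
    refine ⟨Nat.le_of_ble_eq_true h0.1.2, Nat.le_of_ble_eq_true h0.2, h0.1.1.1, h0.1.1.2, ?_⟩
    rcases Nat.lt_or_ge r 56 with h1 | h1
    · have h := allFrom_all rules_triv h1
      simp only [Bool.and_eq_true] at h
      rw [Nat.eq_of_beq_eq_true h.1.1, Nat.eq_of_beq_eq_true h.1.2, Nat.eq_of_beq_eq_true h.2]
      simp [Tv]
    rcases Nat.lt_or_ge r 96 with h2 | h2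
    · obtain ⟨j, rfl⟩ : ∃ j, r = 56 + j := ⟨r - 56, by omega⟩
      have h := allFrom_all rules_comm (show j < 40 by omega)
      simp only [Bool.and_eq_true] at h
      rw [Nat.eq_of_beq_eq_true h.1.1, Nat.eq_of_beq_eq_true h.1.2, Nat.eq_of_beq_eq_true h.2.1,
        Nat.eq_of_beq_eq_true h.2.2, val_pkW _ _ (by simp [Nat.blt]; omega)]
      simp only [List.map_cons, List.map_nil, List.prod_cons, List.prod_nil, mul_one,
        lv_high H (show 16 ≤ 16 + j by omega), Nat.add_sub_cancel_left]
      exact Subgroup.mem_center_iff.1 (Subgroup.pow_mem _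
        (H.central _ (cyc_ok.idx_lt _ (show j < 40 by omega))) _) _
    rcases Nat.lt_or_ge r 103 with h3 | h3
    · obtain ⟨k, rfl⟩ : ∃ k, r = 96 + k := ⟨r - 96, by omega⟩
      have h := allFrom_all rules_conj (show k < 7 by omega)
      simp only [Bool.and_eq_true] at h
      rw [Nat.eq_of_beq_eq_true h.1.1, Nat.eq_of_beq_eq_true h.1.2, val_low H h.2.1, val_word H h.2.2]
      exact H.conj k (by omega)
    obtain rfl : r = 103 := by omega
    have h := rules_sq
    simp only [Bool.and_eq_true] at h
    rw [Nat.eq_of_beq_eq_true h.1.1, Nat.eq_of_beq_eq_true h.1.2, val_low H h.2.1, val_word H h.2.2,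
      ← H.sq]
    simp [Tv, ql]
  rel_ok r hr := by
    change r < 11 at hr
    have h := allFrom_all rel_check hr
    simp only [Bool.and_eq_true] at h
    refine ⟨show 1 < 3 by norm_num, h.2.1, fun m hm => ⟨show 1 < 3 by norm_num, ?_⟩, rel_eq H r hr⟩
    have h2 := allFrom_all h.1.2 hm
    rw [Bool.and_eq_true] at h2
    exact h2.1

theorem found_check : (found.all fun sv => Nat.blt sv.1 steps.len && Nat.beq (steps.fI sv.1) (steps.fJ sv.1) &&
    Nat.beq (steps.fT sv.1) 0 && Nat.beq (steps.fK sv.1) wtab.base &&
    Nat.beq (steps.fH sv.1) (pk16 (16 + 5) (flds cyc (fun i => sv.2.getD i 0) (fld Th.tab.base)))) = true := by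
  decide +kernel

theorem src_check : allFrom (fun j => Nat.blt (steps.nodeSrc j) j) 1 (steps.nNode - 1) = true := by
  decide +kernel

theorem in_check : allFrom (fun s => Bool.rec (motive := fun _ => Bool) true
    (lettersBelow 16 (steps.argW s % 65536) (steps.argW s / 65536)) (Nat.beq (steps.kind s) 1)) 0 steps.len
      = true := by
  decide +kernel

/-- The exponents of a combination of the found facts. -/
def combE : List (Nat × Nat × List Nat) → Nat → Nat
  | [], _ => 0
  | (c, _, v) :: l, i => c * v.getD i 0 + combE l i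

theorem combo_check : allFrom (fun u => allFrom (fun i =>
    Nat.beq (combE ((combo.getD u []).zip found) i % cyc.len i) ((if i = u then 1 else 0) % cyc.len i)) 0 16) 0 16
      = true := by
  decide +kernel

theorem kv_eq_one {F : Type} [Group F] (π : E →* F) (hinj : ∀ q, π (ι q) = 1 → ι q = 1)
    (hk : ∀ i, i < 16 → π (kv i) = 1) (H : Eqs ι U kv) : ∀ i, i < 16 → kv i = 1 := by
  let Hs : Subgroup E := ι.range
  have hin : ∀ s, s < steps.len → steps.kind s = 1 → val (model H).lv (steps.argW s) ∈ Hs := by
    intro s hs h1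
    have h := allFrom_all in_check hs
    rw [h1] at h
    exact valW_mem _ 16 Hs (fun x hx => ⟨qL x, (if_pos (show x < Th.model.nL from hx)).symm⟩) _ _ h
  have hall := Steps.holds_of_in (D := steps) (Hs := Hs) (sound H) hin
    (fun j h1 h2 => Nat.le_of_ble_eq_true ((allFrom_iff _ _ _).1 src_check j h1 (by omega)))
    (show 0 < 3 by norm_num) steps_ok
  have hfound : ∀ sv ∈ found, kp kv 16 (fun i => sv.2.getD i 0) = 1 := by
    intro sv hsv
    have h := List.all_eq_true.1 found_check sv hsv
    simp only [Bool.and_eq_true] at h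
    obtain ⟨⟨⟨⟨hs, hij⟩, hT⟩, hK⟩, hH⟩ := h
    obtain ⟨-, x, y, hx, hy, hmem⟩ := hall sv.1 (Nat.le_of_ble_eq_true hs)
    rw [Nat.eq_of_beq_eq_true hH] at hx
    rw [Nat.eq_of_beq_eq_true hK] at hy
    rw [Nat.eq_of_beq_eq_true hT, ← Nat.eq_of_beq_eq_true hij] at hmem
    obtain ⟨h0, hh0, ht0⟩ := model_below 1
    have hwit : (model H).R (pk16 (16 + 5) (flds cyc (fun i => sv.2.getD i 0) (fld Th.tab.base)))
        (kp kv 16 fun i => sv.2.getD i 0) :=
      ⟨1, fun i => sv.2.getD i 0, h0, hh0, ht0, (flds_base _ hh0 (Th.model.one.symm.trans ht0)).symm,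
        by rw [map_one, one_mul]; rfl⟩
    rw [(model H).uniq _ _ _ hx hwit, (model H).uniq _ _ _ hy (model H).one] at hmem
    have hc := Subgroup.mem_center_iff.1 (kp_mem kv _ 16 (fun i => sv.2.getD i 0) H.central)
    simp only [Tv, if_true, mul_one, inv_one] at hmem
    rw [hc, mul_inv_cancel_right] at hmem
    obtain ⟨q, hq⟩ := hmem
    rw [← hq]
    exact hinj q (by
      rw [hq]
      exact MonoidHom.mem_ker.1 (kp_mem kv π.ker 16 _ fun i hi => MonoidHom.mem_ker.2 (hk i hi)))
  have hcomb : ∀ l : List (Nat × Nat × List Nat), (∀ e ∈ l, e.2 ∈ found) → kp kv 16 (combE l) = 1 := by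
    intro l
    induction l with
    | nil => exact fun _ => kp_zero kv 16
    | cons e l ih =>
      intro hl
      obtain ⟨c, s, v⟩ := e
      show kp kv 16 (fun i => c * v.getD i 0 + combE l i) = 1
      rw [kp_add kv _ _ 16 H.central, kp_nsmul kv 16 H.central,
        hfound (s, v) (hl _ List.mem_cons_self), one_pow, one_mul,
        ih fun e he => hl e (List.mem_cons_of_mem _ he)]
  intro u hu
  have h1 := hcomb ((combo.getD u []).zip found) fun e he => (List.of_mem_zip (show (e.1, e.2) ∈ _ from he)).2
  have h2 : kp kv 16 (combE ((combo.getD u []).zip found)) = kp kv 16 (fun i => if i = u then 1 else 0) := by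
    refine kp_congr kv 16 fun i hi => ?_
    have e := Nat.eq_of_beq_eq_true (allFrom_all (allFrom_all combo_check hu) hi)
    rw [pow_eq_pow_mod _ (H.order i hi), e, ← pow_eq_pow_mod _ (H.order i hi)]
  rw [h1, kp_single, if_pos hu, pow_one] at h2
  exact h2.symm

end Cfsg.Agent.ThMult
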