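import Cfsg.Agent.ThMult.StepData

/-! Generated: the derivation. -/

set_option Elab.async false

namespace Cfsg.Agent.ThMult

open Cfsg.Agent.DCoset Cfsg.Agent.CosetCert Cfsg.Agent.LyMult

/-- The derivation. -/
noncomputable def steps : Steps where
  nNode := 3
  nodeSrc := nodeSrc
  nodeW := nodeWS.get
  nodeT := nodeT
  len := 996
  kind := kind
  argA := argA
  argB := argB
  argW := argWS.get
  fI := fI
  fH := getN 336 fHS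
  fT := fT
  fJ := fJ
  fK := getN 336 fKS

/-- The facts with nothing but central elements, and their exponents. -/
def found : List (Nat × List Nat) := [
  (189, [0, 0, 0, 0, 0, 0, 0, 0, 0, 1, 0, 0, 1, 0, 0, 0]),
  (433, [0, 0, 0, 0, 0, 0, 0, 0, 0, 0, 1, 0, 1, 0, 0, 0]),
  (445, [0, 0, 0, 0, 0, 0, 0, 0, 0, 0, 1, 0, 1, 1, 1, 0]),
  (461, [0, 0, 0, 0, 0, 0, 0, 0, 0, 0, 0, 0, 1, 1, 1, 0]),
  (468, [0, 0, 0, 0, 0, 0, 0, 0, 0, 1, 0, 1, 0, 0, 0, 0]),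
  (486, [0, 0, 0, 0, 0, 0, 0, 0, 0, 0, 0, 1, 0, 0, 0, 1]),
  (527, [0, 0, 0, 0, 0, 0, 0, 0, 0, 0, 0, 0, 1, 0, 1, 0]),
  (561, [999, 242, 0, 0, 999, 242, 0, 0, 0, 1, 0, 1, 0, 0, 0, 0]),
  (598, [1, 1, 0, 0, 999, 242, 0, 0, 0, 0, 1, 1, 0, 0, 0, 0]),
  (751, [0, 0, 0, 0, 0, 0, 0, 0, 1, 1, 0, 0, 0, 0, 0, 0]),
  (850, [998, 241, 998, 241, 0, 0, 0, 0, 1, 1, 0, 0, 0, 0, 0, 0]),
  (880, [2, 2, 0, 0, 0, 0, 999, 242, 0, 1, 1, 0, 1, 1, 1, 0]),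
  (906, [997, 240, 997, 240, 0, 0, 0, 0, 2, 0, 1, 1, 1, 1, 1, 0]),
  (995, [1, 1, 0, 0, 0, 0, 0, 0, 1, 1, 0, 0, 1, 1, 0, 0])]

/-- Combinations of the found exponents giving each unit. -/
def combo : List (List Nat) := [
  [76586, 207041, 69221, 37982, 66576, 0, 202373, 209686, 33314, 73915, 99864, 0, 176424, 202373],
  [166414, 35958, 173780, 205016, 176424, 0, 40628, 33314, 209686, 169084, 143136, 0, 66576, 40628],
  [165112, 103843, 165135, 129775, 25955, 0, 217045, 23, 242977, 51933, 25932, 0, 217045, 217045],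
  [77885, 139161, 77862, 113230, 217046, 0, 25954, 242977, 23, 191069, 217069, 0, 25954, 25954],
  [216999, 0, 26001, 190998, 26001, 0, 26001, 0, 216999, 216999, 0, 0, 0, 26001],
  [26000, 0, 217000, 52000, 217000, 0, 217000, 0, 26000, 26000, 0, 0, 0, 217000],
  [26001, 164997, 104004, 112995, 0, 0, 52002, 0, 0, 190998, 0, 216999, 0, 52002],
  [217000, 78000, 139000, 130000, 0, 0, 191000, 0, 0, 52000, 0, 26000, 0, 191000],
  [242999, 1, 242999, 1, 0, 0, 0, 0, 0, 1, 0, 0, 0, 0],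
  [1, 242999, 1, 242999, 0, 0, 0, 0, 0, 0, 0, 0, 0, 0],
  [0, 0, 1, 242999, 0, 0, 0, 0, 0, 0, 0, 0, 0, 0],
  [242999, 1, 242999, 1, 1, 0, 0, 0, 0, 0, 0, 0, 0, 0],
  [0, 1, 242999, 1, 0, 0, 0, 0, 0, 0, 0, 0, 0, 0],
  [0, 0, 0, 1, 0, 0, 242999, 0, 0, 0, 0, 0, 0, 0],
  [0, 242999, 1, 242999, 0, 0, 1, 0, 0, 0, 0, 0, 0, 0],
  [1, 242999, 1, 242999, 242999, 1, 0, 0, 0, 0, 0, 0, 0, 0]]

end Cfsg.Agent.ThMult
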