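import Cfsg.Agent.DCoset.Th.Table
import Cfsg.Agent.LyMult.WModel

/-! Generated: the letters. -/

set_option Elab.async false

namespace Cfsg.Agent.ThMult

open Cfsg.Agent.DCoset Cfsg.Agent.CosetCert Cfsg.Agent.LyMult

/-- The cycles for the unknown central elements. -/
noncomputable def cyc : Cyc where
  r := 16
  off i := Nat.add 1024 (Nat.mul 1024 i)
  len i := Nat.mod (Nat.shiftRight 0x2000200020002000200020002000300f303e800f303e800f303e800f303e8 (Nat.mul 16 i)) 65536
  nW := 40
  idx j := Nat.mod (Nat.shiftRight 0xf000e000d000c000b000a0009000800070007000700070006000600060006000500050005000500040004000400040003000300030003000200020002000200010001000100010000000000000000 (Nat.mul 16 j)) 65536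
  inc j := Nat.mod (Nat.shiftRight 0x1000100010001000100010001000100e300f20010000103ca03e7001e000100e300f20010000103ca03e7001e000100e300f20010000103ca03e7001e000100e300f20010000103ca03e7001e0001 (Nat.mul 16 j)) 65536

/-- The letters of the subgroup and of `cyc`. -/
noncomputable def wtab : Tab := wTab Th.tab 819 cyc 0xf000900050003000140003c003800340030002c002800240020001c001800140010000c0008000400

end Cfsg.Agent.ThMult
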